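import Cfsg.Agent.Lib.Helper82.OneBlock.Criterion
import Cfsg.Agent.S4487

/-!
# A finite group with a self-centralizing normal `p`-subgroup has one `p`-block (helper82)
-/

set_option autoImplicit false

namespace Cfsg.Agent.Lib.Helper82.OneBlock

open Cfsg

theorem hasOneBlock_of_normal_pSubgroup {H : Type*} [Group H] [Finite H] (p : ℕ) [Fact p.Prime]
    (M : Ideal AlgInt) (hM : IsPModular p M) (E : Subgroup H) [hEn : E.Normal]
    (hE : IsPGroup p E) (hcE : Subgroup.centralizer (E : Set H) ≤ E) : HasOneBlock M H := by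
  have hp : p.Prime := Fact.out
  have hEle : E ≤ pCore p H := Cfsg.Agent.Lib.Helper1.le_pCore hEn hE
  have hconstr : Subgroup.centralizer ((pCore p H : Subgroup H) : Set H) ≤ pCore p H :=
    ((Subgroup.centralizer_le (show (E : Set H) ⊆ (pCore p H : Subgroup H) from hEle)).trans
      hcE).trans hEle
  have hcore : pPrimeCore p H = ⊥ := by
    rw [pPrimeCore, eq_bot_iff]
    apply sSup_le
    rintro N ⟨hNn, hNc⟩
    have hdis : Disjoint N E := by
      rw [Subgroup.disjoint_def]
      intro x hxN hxE
      obtain ⟨k, hk⟩ := hE ⟨x, hxE⟩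
      have hk' : x ^ (p ^ k) = 1 := by
        have := congrArg Subtype.val hk
        simpa using this
      have h1 : orderOf x ∣ p ^ k := orderOf_dvd_of_pow_eq_one hk'
      have h2 : orderOf x ∣ Nat.card N := by
        have := orderOf_dvd_natCard (⟨x, hxN⟩ : N)
        rwa [Subgroup.orderOf_mk] at this
      have h3 : (orderOf x).Coprime (p ^ k) :=
        Nat.Coprime.coprime_dvd_left h2 (Nat.Coprime.pow_right k hNc)
      have h4 : orderOf x = 1 := Nat.Coprime.eq_one_of_dvd h3 h1
      exact orderOf_eq_one_iff.mp h4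
    intro x hxN
    have hxc : x ∈ Subgroup.centralizer (E : Set H) := by
      rw [Subgroup.mem_centralizer_iff]
      intro y hy
      exact ((Subgroup.commute_of_normal_of_disjoint N E hNn hEn hdis x y hxN hy).eq).symm
    have hxE : x ∈ E := hcE hxc
    exact (Subgroup.disjoint_def.mp hdis) hxN hxE
  intro ξ η
  exact Cfsg.Agent.S4487.result p M hM hcore hconstr ξ η

end Cfsg.Agent.Lib.Helper82.OneBlock
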