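import Cfsg.Agent.Lib.Helper82.OneBlock.NoDefectZeroB
import Cfsg.Agent.Lib.Helper82.OneBlock.Constrained

/-!
# A group of order 443520 with the local data of `M₂₂` has a single `2`-block (helper82)
-/

set_option autoImplicit false

namespace Cfsg.Agent.Lib.Helper82.OneBlock

open Cfsg

/-- Abstract form of "`M₂₂` has one `2`-block": a finite group of order `443520` in which
* every involution is conjugate to `z0`, and `C_G(z0)` has a normal self-centralizing `2`-subgroup;
* there are elements `g5, g7, g11` of orders `5, 7, 11` with centralizers of orders at most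
  `5, 7, 11`, with `g5 ~ g5²`, `g7 ~ g7²`, `g11 ~ g11³`, `g7 ≁ g7⁻¹`, `g11 ≁ g11⁻¹`,
has a single `2`-block. -/
theorem sameBlock_443520 {G : Type*} [Group G] [Finite G] (hG : Nat.card G = 443520)
    (M : Ideal AlgInt) (hM : IsPModular 2 M)
    (z0 : G) (hconj : ∀ z : G, orderOf z = 2 → IsConj z z0)
    (E : Subgroup (Subgroup.centralizer ({z0} : Set G))) (hEn : E.Normal) (hE2 : IsPGroup 2 E)
    (hcE : Subgroup.centralizer (E : Set (Subgroup.centralizer ({z0} : Set G))) ≤ E)
    (g5 g7 g11 : G) (h5 : orderOf g5 = 5) (h7 : orderOf g7 = 7) (h11 : orderOf g11 = 11)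
    (c5 : Nat.card (Subgroup.centralizer ({g5} : Set G)) ≤ 5)
    (c7 : Nat.card (Subgroup.centralizer ({g7} : Set G)) ≤ 7)
    (c11 : Nat.card (Subgroup.centralizer ({g11} : Set G)) ≤ 11)
    (f5 : IsConj g5 (g5 ^ 2)) (f7 : IsConj g7 (g7 ^ 2)) (f11 : IsConj g11 (g11 ^ 3))
    (nr7 : ¬ IsConj g7 g7⁻¹) (nr11 : ¬ IsConj g11 g11⁻¹)
    (χ ψ : IrrCharacter G) : SameBlock M (χ : G → ℂ) (ψ : G → ℂ) := by
  haveI : Fact (Nat.Prime 2) := ⟨Nat.prime_two⟩
  apply sameBlock_of_centralizers 2 M hM
  · intro z hz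
    obtain ⟨x, hx⟩ := isConj_iff.mp (hconj z hz)
    refine ⟨x, ?_⟩
    rw [hx]
    exact hasOneBlock_of_normal_pSubgroup 2 M hM E hE2 hcE
  · intro χ
    have hfac : (Nat.card G).factorization 2 = 7 := by
      rw [hG]
      have : (443520 : ℕ) = 2 ^ 7 * 3465 := by norm_num
      rw [this, Nat.factorization_mul (by norm_num) (by norm_num), Nat.Prime.factorization_pow
        Nat.prime_two]
      simp only [Finsupp.coe_add, Pi.add_apply, Finsupp.single_eq_same]
      have : (3465 : ℕ).factorization 2 = 0 :=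
        Nat.factorization_eq_zero_of_not_dvd (by norm_num)
      rw [this]
    rw [hfac]
    exact no_defect_zero_443520 hG g5 g7 g11 h5 h7 h11 c5 c7 c11 f5 f7 f11 nr7 nr11 χ

end Cfsg.Agent.Lib.Helper82.OneBlock
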