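import Cfsg.Agent.S0958
import Cfsg.Agent.S0936
import Cfsg.Agent.S0906
import Cfsg.Agent.S0908
import Cfsg.Agent.Lib.Helper16.NormalSub

/-!
# A one-block criterion (helper82)

If the centralizer of (a conjugate of) every element of order `p` has a single `p`-block and no
irreducible character of `G` has `p`-defect zero, then `G` has a single `p`-block.
Proof: a block `B` has a nontrivial defect group `D`; for `z ∈ D` of order `p`, Brauer's first main
theorem in the form S0958 gives a block `b` of `C_G(z)` inducing `B`; `b` is principal, so `B` is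
principal by the third main theorem S0936.
-/

set_option autoImplicit false

namespace Cfsg.Agent.Lib.Helper82.OneBlock

open Cfsg Cfsg.Agent.Lib.Helper16

/-- Two blocks induced by the same block coincide. -/
theorem isInducedBlock_unique {G : Type*} [Group G] {M : Ideal AlgInt} [M.IsPrime]
    {H : Subgroup G} {b : Set (IrrCharacter H)} {B B' : Set (IrrCharacter G)}
    (h : IsInducedBlock M H b B) (h' : IsInducedBlock M H b B') : B = B' := by
  have hMtop : M ≠ ⊤ := Ideal.IsPrime.ne_top'
  obtain ⟨ξ, hξ⟩ := IsPBlock_nonempty hMtop h.1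
  obtain ⟨χ, hχ⟩ := IsPBlock_nonempty hMtop h.2.1
  obtain ⟨χ', hχ'⟩ := IsPBlock_nonempty hMtop h'.2.1
  have hs : SameBlock M (χ : G → ℂ) (χ' : G → ℂ) := by
    intro g
    have h1 := h.2.2 ξ hξ χ hχ g
    have h2 := h'.2.2 ξ hξ χ' hχ' g
    have h3 := memLocalIdeal_sub h2 h1
    have e : (inducedCentralChar H (ξ : H → ℂ) g - centralChar (χ' : G → ℂ) g) -
        (inducedCentralChar H (ξ : H → ℂ) g - centralChar (χ : G → ℂ) g) =
        centralChar (χ : G → ℂ) g - centralChar (χ' : G → ℂ) g := by ring
    rwa [e] at h3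
  rw [IsPBlock_eq_blockOf h.2.1 hχ, IsPBlock_eq_blockOf h'.2.1 hχ']
  exact blockOf_eq_of_sameBlock hs

/-- `H` has a single block relative to `M`. -/
def HasOneBlock (M : Ideal AlgInt) (H : Type*) [Group H] : Prop :=
  ∀ ξ η : IrrCharacter H, SameBlock M (ξ : H → ℂ) (η : H → ℂ)

theorem eq_principalBlock_of_oneBlock {H : Type*} [Group H] {M : Ideal AlgInt} [M.IsPrime]
    (h1 : HasOneBlock M H) {b : Set (IrrCharacter H)} (hb : IsPBlock M b) :
    b = principalBlock M H := by
  obtain ⟨ξ, rfl⟩ := hb
  ext η
  constructor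
  · intro _
    exact h1 ⟨fun _ => 1, Cfsg.Agent.Lib.Helper78.isIrrCharacter_one⟩ η
  · intro _
    exact h1 ξ η

/-- If no member of the block has defect zero, the defect is positive. -/
theorem blockDefect_pos_of_no_defect_zero {G : Type*} [Group G] {p : ℕ}
    {M : Ideal AlgInt} (hMtop : M ≠ ⊤) {B : Set (IrrCharacter G)} (hB : IsPBlock M B)
    (hdz : ∀ χ : IrrCharacter G, ¬ p ^ (Nat.card G).factorization p ∣ charDegree (χ : G → ℂ)) :
    0 < blockDefect p B := by
  by_contra h0
  have h0' : blockDefect p B = 0 := by omega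
  unfold blockDefect at h0'
  set S : Set ℕ := (fun χ : IrrCharacter G => (charDegree (χ : G → ℂ)).factorization p) '' B
    with hS
  have hne : S.Nonempty := (IsPBlock_nonempty hMtop hB).image _
  obtain ⟨χ, _, hχ⟩ := Nat.sInf_mem hne
  have hle : (Nat.card G).factorization p ≤ (charDegree (χ : G → ℂ)).factorization p := by
    have hχ' : (charDegree (χ : G → ℂ)).factorization p = sInf S := hχ
    rw [hχ']; omega
  exact hdz χ ((pow_dvd_pow p hle).trans (Nat.ordProj_dvd _ _))

/-- **One-block criterion.** -/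
theorem sameBlock_of_centralizers {G : Type*} [Group G] [Finite G] (p : ℕ) [Fact p.Prime]
    (M : Ideal AlgInt) (hM : IsPModular p M)
    (hcent : ∀ z : G, orderOf z = p →
      ∃ x : G, HasOneBlock M (Subgroup.centralizer ({x * z * x⁻¹} : Set G)))
    (hdz : ∀ χ : IrrCharacter G, ¬ p ^ (Nat.card G).factorization p ∣ charDegree (χ : G → ℂ))
    (χ ψ : IrrCharacter G) : SameBlock M (χ : G → ℂ) (ψ : G → ℂ) := by
  classical
  have hMp : M.IsPrime := isPModular_isPrime hM
  have hMtop : M ≠ ⊤ := hMp.ne_top
  have key : ∀ χ : IrrCharacter G, χ ∈ principalBlock M G := by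
    intro χ
    set B := blockOf M (χ : G → ℂ) with hBdef
    have hB : IsPBlock M B := isPBlock_blockOf χ
    have hχB : χ ∈ B := self_mem_blockOf hMtop χ
    obtain ⟨g, hg⟩ := Cfsg.Agent.S0906.result p M hM B hB
    obtain ⟨P⟩ : Nonempty (Sylow p (Subgroup.centralizer ({g} : Set G))) := inferInstance
    set D : Subgroup G := (P : Subgroup (Subgroup.centralizer ({g} : Set G))).map
      (Subgroup.centralizer ({g} : Set G)).subtype with hDdef
    have hD : IsDefectGroup p M B D := ⟨g, hg, P, rfl⟩
    have hcard : Nat.card D = p ^ blockDefect p B := Cfsg.Agent.S0908.result p M hM B hB D hD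
    have hpos : 0 < blockDefect p B := blockDefect_pos_of_no_defect_zero hMtop hB hdz
    have hdvd : p ∣ Nat.card D := by
      rw [hcard]; exact dvd_pow_self p (by omega)
    obtain ⟨z', hz'⟩ := exists_prime_orderOf_dvd_card' p hdvd
    set z : G := (z' : G) with hzdef
    have hz : orderOf z = p := by rw [hzdef, Subgroup.orderOf_coe]; exact hz'
    have hzD : z ∈ D := z'.2
    obtain ⟨x, hx⟩ := hcent z hz
    set z0 : G := x * z * x⁻¹ with hz0
    set H : Subgroup G := Subgroup.centralizer ({z0} : Set G) with hH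
    have hz0ord : orderOf z0 = p := by
      rw [hz0, ← hz]
      have := (MulAut.conj x).orderOf_eq z
      rwa [MulAut.conj_apply] at this
    have hPz : IsPGroup p (Subgroup.zpowers z0) := by
      apply IsPGroup.of_card (n := 1)
      rw [Nat.card_zpowers, hz0ord, pow_one]
    have hmemH : ∀ h : G, h ∈ H ↔ h * z0 = z0 * h := by
      intro h
      rw [hH, Subgroup.mem_centralizer_iff]
      constructor
      · intro hh; exact (hh z0 rfl).symm
      · intro hh y hy
        rw [Set.mem_singleton_iff] at hy; subst hy; exact hh.symm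
    have hzpH : Subgroup.zpowers z0 ≤ H := by
      rw [Subgroup.zpowers_le, hmemH]
    have hPH : Subgroup.zpowers z0 ⊔ Subgroup.centralizer ((Subgroup.zpowers z0 : Subgroup G) : Set G)
        ≤ H := by
      apply sup_le hzpH
      apply Subgroup.centralizer_le
      intro y hy
      rw [Set.mem_singleton_iff] at hy; subst hy
      exact Subgroup.mem_zpowers z0
    have hHN : H ≤ Subgroup.normalizer ((Subgroup.zpowers z0 : Subgroup G) : Set G) := by
      have hcomm : ∀ c : G, c * z0 = z0 * c → ∀ w : G, w ∈ Subgroup.zpowers z0 →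
          c * w * c⁻¹ = w := by
        intro c hc w hw
        obtain ⟨k, rfl⟩ := Subgroup.mem_zpowers_iff.mp hw
        have : Commute c (z0 ^ k) := (show Commute c z0 from hc).zpow_right k
        rw [this.eq, mul_inv_cancel_right]
      intro h hh
      rw [hmemH] at hh
      rw [Subgroup.mem_normalizer_iff]
      intro y
      constructor
      · intro hy; rw [hcomm h hh y hy]; exact hy
      · intro hy
        have hh' : h⁻¹ * z0 = z0 * h⁻¹ := by
          have : h⁻¹ * (h * z0) * h⁻¹ = h⁻¹ * (z0 * h) * h⁻¹ := by rw [hh]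
          rw [show h⁻¹ * (h * z0) * h⁻¹ = z0 * h⁻¹ by group,
            show h⁻¹ * (z0 * h) * h⁻¹ = h⁻¹ * z0 by group] at this
          exact this.symm
        have h2 := hcomm h⁻¹ hh' _ hy
        rw [show h⁻¹ * (h * y * h⁻¹) * h⁻¹⁻¹ = y by group] at h2
        rw [h2]; exact hy
    have hconjle : (Subgroup.zpowers z0).map (MulAut.conj x⁻¹).toMonoidHom ≤ D := by
      rintro _ ⟨w, hw, rfl⟩
      obtain ⟨k, rfl⟩ := Subgroup.mem_zpowers_iff.mp hw
      have e : (MulAut.conj x⁻¹).toMonoidHom (z0 ^ k) = z ^ k := by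
        rw [map_zpow]
        congr 1
        show (MulAut.conj x⁻¹) z0 = z
        rw [MulAut.conj_apply, hz0]; group
      rw [e]
      exact D.zpow_mem hzD k
    obtain ⟨b, hb⟩ := (Cfsg.Agent.S0958.result p M hM (Subgroup.zpowers z0) H hPz hPH hHN B hB).mpr
      ⟨D, hD, x⁻¹, hconjle⟩
    have hbp : b = principalBlock M H := eq_principalBlock_of_oneBlock hx hb.1
    have hb' : IsInducedBlock M H b (principalBlock M G) :=
      (Cfsg.Agent.S0936.result p M hM H b ⟨B, hb⟩).mpr hbp
    have hBp : B = principalBlock M G := isInducedBlock_unique hb hb'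
    rw [← hBp]; exact hχB
  have h1 := key χ
  have h2 := key ψ
  rw [mem_principalBlock_iff] at h1 h2
  exact sameBlock_trans (sameBlock_symm h1) h2

end Cfsg.Agent.Lib.Helper82.OneBlock
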