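import Cfsg.Agent.Lib.Helper82.OneBlock.Arith443520

/-!
# The arithmetic of the norm count for `|G| = 244823040` (helper82)
-/

set_option autoImplicit false
set_option maxHeartbeats 1600000

namespace Cfsg.Agent.Lib.Helper82.OneBlock

theorem q23_nonneg (u v : ℤ) : 0 ≤ u ^ 2 - u * v + 6 * v ^ 2 := by
  nlinarith [sq_nonneg (2 * u - v), sq_nonneg v]

theorem sq_ge_sq {b c : ℤ} (hc : 0 ≤ c) (h : b ≤ -c ∨ c ≤ b) : c ^ 2 ≤ b ^ 2 := by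
  rcases h with h | h <;> nlinarith

/-- The arithmetic core for the order of `M₂₄`. -/
theorem arith_244823040 (d k23 k11 k7 k5 n23 a23 b23 n11 a11 n7 a7 b7 n5 a5 : ℤ)
    (hd0 : 0 < d) (hd1024 : (1024 : ℤ) ∣ d) (hddvd : d ∣ 244823040)
    (hk23 : 10644480 ≤ k23) (hk11 : 22256640 ≤ k11) (hk7 : 5829120 ≤ k7) (hk5 : 4080384 ≤ k5)
    (e23 : d = n23 + 11 * a23 + 11 * b23) (e11 : d = n11 + 10 * a11)
    (e7 : d = n7 + 3 * a7 + 3 * b7) (e5 : d = n5 + 4 * a5)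
    (h4 : (4 : ℤ) ∣ n5 - a5)
    (hnorm : d ^ 2
      + 2 * k23 * (n23 ^ 2 + 6 * a23 ^ 2 + 6 * b23 ^ 2 - n23 * a23 - n23 * b23 - 11 * a23 * b23)
      + k11 * (n11 - a11) ^ 2
      + 2 * k7 * (n7 ^ 2 + 2 * a7 ^ 2 + 2 * b7 ^ 2 - n7 * a7 - n7 * b7 - 3 * a7 * b7)
      + k5 * (n5 - a5) ^ 2 ≤ 244823040) : False := by
  have hQ23' : n23 ^ 2 + 6 * a23 ^ 2 + 6 * b23 ^ 2 - n23 * a23 - n23 * b23 - 11 * a23 * b23 =
      (n23 - b23) ^ 2 - (n23 - b23) * (a23 - b23) + 6 * (a23 - b23) ^ 2 := by ring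
  have hQ7' : n7 ^ 2 + 2 * a7 ^ 2 + 2 * b7 ^ 2 - n7 * a7 - n7 * b7 - 3 * a7 * b7 =
      (n7 - b7) ^ 2 - (n7 - b7) * (a7 - b7) + 2 * (a7 - b7) ^ 2 := by ring
  -- congruences `Q ≡ d²`
  have c23 : n23 ^ 2 + 6 * a23 ^ 2 + 6 * b23 ^ 2 - n23 * a23 - n23 * b23 - 11 * a23 * b23 =
      d ^ 2 - 23 * (((n23 - b23) * (a23 - b23) + 5 * (a23 - b23) ^ 2)
        + b23 * (2 * ((n23 - b23) + 11 * (a23 - b23)) + 23 * b23)) := by
    rw [e23]; ring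
  have c7 : n7 ^ 2 + 2 * a7 ^ 2 + 2 * b7 ^ 2 - n7 * a7 - n7 * b7 - 3 * a7 * b7 =
      d ^ 2 - 7 * (((n7 - b7) * (a7 - b7) + (a7 - b7) ^ 2)
        + b7 * (2 * ((n7 - b7) + 3 * (a7 - b7)) + 7 * b7)) := by
    rw [e7]; ring
  set Q23 : ℤ := n23 ^ 2 + 6 * a23 ^ 2 + 6 * b23 ^ 2 - n23 * a23 - n23 * b23 - 11 * a23 * b23
    with hQ23
  set Q7 : ℤ := n7 ^ 2 + 2 * a7 ^ 2 + 2 * b7 ^ 2 - n7 * a7 - n7 * b7 - 3 * a7 * b7 with hQ7
  set W23 : ℤ := ((n23 - b23) * (a23 - b23) + 5 * (a23 - b23) ^ 2)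
        + b23 * (2 * ((n23 - b23) + 11 * (a23 - b23)) + 23 * b23) with hW23
  set W7 : ℤ := ((n7 - b7) * (a7 - b7) + (a7 - b7) ^ 2)
        + b7 * (2 * ((n7 - b7) + 3 * (a7 - b7)) + 7 * b7) with hW7
  set x11 : ℤ := n11 - a11 with hx11
  set x5 : ℤ := n5 - a5 with hx5
  set X11 : ℤ := x11 ^ 2 with hX11
  set X5 : ℤ := x5 ^ 2 with hX5
  have hQ230 : 0 ≤ Q23 := by rw [hQ23']; exact q23_nonneg _ _
  have hQ70 : 0 ≤ Q7 := by rw [hQ7']; exact q7_nonneg _ _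
  have hX110 : 0 ≤ X11 := sq_nonneg _
  have hX50 : 0 ≤ X5 := sq_nonneg _
  have p23 : 0 ≤ (k23 - 10644480) * Q23 := mul_nonneg (by omega) hQ230
  have p11 : 0 ≤ (k11 - 22256640) * X11 := mul_nonneg (by omega) hX110
  have p7 : 0 ≤ (k7 - 5829120) * Q7 := mul_nonneg (by omega) hQ70
  have p5 : 0 ≤ (k5 - 4080384) * X5 := mul_nonneg (by omega) hX50
  have hI : d ^ 2 + 21288960 * Q23 + 22256640 * X11 + 11658240 * Q7 + 4080384 * X5
      ≤ 244823040 := by nlinarith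
  have hx11d : x11 = d - 11 * a11 := by omega
  have hx5d : x5 = d - 5 * a5 := by omega
  obtain ⟨y5, hy5⟩ := h4
  obtain ⟨k, rfl⟩ := hd1024
  have hk0 : 0 < k := by omega
  have hk15 : k ≤ 15 := by
    by_contra hk
    have : 16 ≤ k := by omega
    nlinarith
  interval_cases k
  · -- k = 1
    norm_num at c23 c7 hI
    have h1 : 6 ≤ Q23 := by omega
    have h2 : 4 ≤ Q7 := by omega
    have h3 : 1 ≤ X11 := sq_ge_one (by omega)
    have h4 : (4 : ℤ) ^ 2 ≤ X5 := sq_ge_sq (by norm_num) (by omega)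
    omega
  · norm_num at hddvd
  · -- k = 3
    norm_num at c23 c7 hI
    have h1 : 8 ≤ Q23 := by omega
    have h3 : (3 : ℤ) ^ 2 ≤ X11 := sq_ge_sq (by norm_num) (by omega)
    omega
  · norm_num at hddvd
  · -- k = 5
    norm_num at c23 c7 hI
    have h1 : 12 ≤ Q23 := by omega
    omega
  · norm_num at hddvd
  · -- k = 7
    norm_num at c23 c7 hI
    have h1 : 18 ≤ Q23 := by omega
    omega
  · norm_num at hddvd
  · -- k = 9
    norm_num at c23 c7 hI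
    have h1 : 3 ≤ Q23 := by omega
    have h2 : 2 ≤ Q7 := by omega
    have h3 : (2 : ℤ) ^ 2 ≤ X11 := sq_ge_sq (by norm_num) (by omega)
    omega
  · norm_num at hddvd
  · -- k = 11
    norm_num at c23 c7 hI
    have h1 : 13 ≤ Q23 := by omega
    omega
  · norm_num at hddvd
  · norm_num at hddvd
  · norm_num at hddvd
  · -- k = 15
    norm_num at c23 c7 hI
    have h1 : 16 ≤ Q23 := by omega
    omega

end Cfsg.Agent.Lib.Helper82.OneBlock
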