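import Mathlib

/-!
# The arithmetic of the norm count for `|G| = 443520` (helper82)
-/

set_option autoImplicit false

namespace Cfsg.Agent.Lib.Helper82.OneBlock

/-- The form `u² - uv + 2v²` is at least `1` off the origin. -/
theorem q7_pos {u v : ℤ} (h : ¬ (u = 0 ∧ v = 0)) : 1 ≤ u ^ 2 - u * v + 2 * v ^ 2 := by
  by_cases hv : v = 0
  · subst hv
    have hu : u ≠ 0 := fun hu => h ⟨hu, rfl⟩
    have : 1 ≤ u ^ 2 := by
      have := Int.one_le_abs hu
      nlinarith [abs_mul_abs_self u, sq_abs u]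
    linarith
  · have : 1 ≤ v ^ 2 := by
      have := Int.one_le_abs hv
      nlinarith [abs_mul_abs_self v, sq_abs v]
    nlinarith [sq_nonneg (2 * u - v)]

/-- If the form `u² - uv + 2v²` equals `1` then `v = 0` and `u = ±1`. -/
theorem q7_eq_one {u v : ℤ} (h : u ^ 2 - u * v + 2 * v ^ 2 = 1) : v = 0 ∧ (u = 1 ∨ u = -1) := by
  have hv : v = 0 := by
    by_contra hv
    have : 1 ≤ v ^ 2 := by
      have := Int.one_le_abs hv
      nlinarith [abs_mul_abs_self v, sq_abs v]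
    nlinarith [sq_nonneg (2 * u - v)]
  subst hv
  refine ⟨rfl, ?_⟩
  have : (u - 1) * (u + 1) = 0 := by nlinarith
  rcases mul_eq_zero.mp this with h1 | h1
  · left; omega
  · right; omega

/-- The form `u² - uv + 3v²` is at least `1` off the origin. -/
theorem q11_pos {u v : ℤ} (h : ¬ (u = 0 ∧ v = 0)) : 1 ≤ u ^ 2 - u * v + 3 * v ^ 2 := by
  by_cases hv : v = 0
  · subst hv
    have hu : u ≠ 0 := fun hu => h ⟨hu, rfl⟩
    have : 1 ≤ u ^ 2 := by
      have := Int.one_le_abs hu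
      nlinarith [abs_mul_abs_self u, sq_abs u]
    linarith
  · have : 1 ≤ v ^ 2 := by
      have := Int.one_le_abs hv
      nlinarith [abs_mul_abs_self v, sq_abs v]
    nlinarith [sq_nonneg (2 * u - v)]

theorem q11_eq_one {u v : ℤ} (h : u ^ 2 - u * v + 3 * v ^ 2 = 1) : v = 0 ∧ (u = 1 ∨ u = -1) := by
  have hv : v = 0 := by
    by_contra hv
    have : 1 ≤ v ^ 2 := by
      have := Int.one_le_abs hv
      nlinarith [abs_mul_abs_self v, sq_abs v]
    nlinarith [sq_nonneg (2 * u - v)]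
  subst hv
  refine ⟨rfl, ?_⟩
  have : (u - 1) * (u + 1) = 0 := by nlinarith
  rcases mul_eq_zero.mp this with h1 | h1
  · left; omega
  · right; omega

theorem q7_nonneg (u v : ℤ) : 0 ≤ u ^ 2 - u * v + 2 * v ^ 2 := by
  nlinarith [sq_nonneg (2 * u - v), sq_nonneg v]

theorem q11_nonneg (u v : ℤ) : 0 ≤ u ^ 2 - u * v + 3 * v ^ 2 := by
  nlinarith [sq_nonneg (2 * u - v), sq_nonneg v]

theorem sq_ge_four {b : ℤ} (h : b ≤ -2 ∨ 2 ≤ b) : 4 ≤ b ^ 2 := by
  rcases h with h | h <;> nlinarith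

theorem sq_ge_one {b : ℤ} (h : b ≠ 0) : 1 ≤ b ^ 2 := by
  have := Int.one_le_abs h
  nlinarith [abs_mul_abs_self b, sq_abs b]

theorem eq_pm_one_of_sq {b : ℤ} (h : b ^ 2 = 1) : b = 1 ∨ b = -1 := by
  have : (b - 1) * (b + 1) = 0 := by nlinarith
  rcases mul_eq_zero.mp this with h1 | h1
  · left; omega
  · right; omega

/-- The arithmetic core: the norm count is contradictory for a degree divisible by `128`. -/
theorem arith_443520 (d k5 k7 k11 n5 a5 n7 a7 b7 n11 a11 b11 : ℤ)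
    (hd0 : 0 < d) (hd128 : (128 : ℤ) ∣ d) (hddvd : d ∣ 443520)
    (hk5 : 88704 ≤ k5) (hk7 : 63360 ≤ k7) (hk11 : 40320 ≤ k11)
    (e5 : d = n5 + 4 * a5) (e7 : d = n7 + 3 * a7 + 3 * b7) (e11 : d = n11 + 5 * a11 + 5 * b11)
    (hnorm : d ^ 2 + k5 * (n5 - a5) ^ 2
      + 2 * k7 * (n7 ^ 2 + 2 * a7 ^ 2 + 2 * b7 ^ 2 - n7 * a7 - n7 * b7 - 3 * a7 * b7)
      + 2 * k11 * (n11 ^ 2 + 3 * a11 ^ 2 + 3 * b11 ^ 2 - n11 * a11 - n11 * b11 - 5 * a11 * b11)
        ≤ 443520)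
    (hsum : 443520 ≤ d ^ 2 + k5 * (n5 - a5) ^ 2
      + 2 * k7 * (n7 ^ 2 + 2 * a7 ^ 2 + 2 * b7 ^ 2 - n7 * a7 - n7 * b7 - 3 * a7 * b7)
      + 2 * k11 * (n11 ^ 2 + 3 * a11 ^ 2 + 3 * b11 ^ 2 - n11 * a11 - n11 * b11 - 5 * a11 * b11)
      → d + k5 * (n5 - a5) + k7 * (2 * n7 - a7 - b7) + k11 * (2 * n11 - a11 - b11) = 0) :
    False := by
  have hQ7' : n7 ^ 2 + 2 * a7 ^ 2 + 2 * b7 ^ 2 - n7 * a7 - n7 * b7 - 3 * a7 * b7 =
      (n7 - b7) ^ 2 - (n7 - b7) * (a7 - b7) + 2 * (a7 - b7) ^ 2 := by ring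
  have hQ11' : n11 ^ 2 + 3 * a11 ^ 2 + 3 * b11 ^ 2 - n11 * a11 - n11 * b11 - 5 * a11 * b11 =
      (n11 - b11) ^ 2 - (n11 - b11) * (a11 - b11) + 3 * (a11 - b11) ^ 2 := by ring
  rw [hQ7', hQ11'] at hnorm hsum
  set b : ℤ := n5 - a5 with hb
  set u7 : ℤ := n7 - b7 with hu7
  set v7 : ℤ := a7 - b7 with hv7
  set u11 : ℤ := n11 - b11 with hu11
  set v11 : ℤ := a11 - b11 with hv11
  set B : ℤ := b ^ 2 with hB
  set Q7 : ℤ := u7 ^ 2 - u7 * v7 + 2 * v7 ^ 2 with hQ7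
  set Q11 : ℤ := u11 ^ 2 - u11 * v11 + 3 * v11 ^ 2 with hQ11
  have hB0 : 0 ≤ B := sq_nonneg _
  have hQ70 : 0 ≤ Q7 := q7_nonneg _ _
  have hQ110 : 0 ≤ Q11 := q11_nonneg _ _
  have p5 : 0 ≤ (k5 - 88704) * B := mul_nonneg (by omega) hB0
  have p7 : 0 ≤ (k7 - 63360) * Q7 := mul_nonneg (by omega) hQ70
  have p11 : 0 ≤ (k11 - 40320) * Q11 := mul_nonneg (by omega) hQ110
  have hI : d ^ 2 + 88704 * B + 126720 * Q7 + 80640 * Q11 ≤ 443520 := by nlinarith
  -- congruence facts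
  have hbd : b = d - 5 * a5 := by omega
  have hd7 : d = u7 + 3 * v7 + 7 * b7 := by omega
  have hd11 : d = u11 + 5 * v11 + 11 * b11 := by omega
  obtain ⟨k, rfl⟩ := hd128
  have hk0 : 0 < k := by omega
  have hk5' : k ≤ 5 := by
    by_contra hk
    have : 6 ≤ k := by omega
    nlinarith
  have hQ7pos : 1 ≤ Q7 := by
    apply q7_pos
    rintro ⟨h1, h2⟩
    interval_cases k <;> omega
  have hQ11pos : 1 ≤ Q11 := by
    apply q11_pos
    rintro ⟨h1, h2⟩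
    interval_cases k <;> omega
  interval_cases k
  · -- d = 128
    have hb4 : 4 ≤ B := sq_ge_four (by omega)
    omega
  · -- d = 256
    norm_num at hddvd
  · -- d = 384
    have hb1 : 1 ≤ B := sq_ge_one (by omega)
    have hB1 : B = 1 := by omega
    have hQ71 : Q7 = 1 := by omega
    have hQ111 : Q11 = 1 := by omega
    have hbm : b = -1 := by
      rcases eq_pm_one_of_sq hB1 with h | h
      · omega
      · exact h
    obtain ⟨hv7z, hu7c⟩ := q7_eq_one hQ71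
    obtain ⟨hv11z, hu11c⟩ := q11_eq_one hQ111
    have hu7m : u7 = -1 := by
      rcases hu7c with h | h
      · omega
      · exact h
    have hu11m : u11 = -1 := by
      rcases hu11c with h | h
      · omega
      · exact h
    have hprem : (443520 : ℤ) ≤ (128 * 3) ^ 2 + k5 * B + 2 * k7 * Q7 + 2 * k11 * Q11 := by
      rw [hB1, hQ71, hQ111]; omega
    have h0 := hsum hprem
    have e1 : 2 * n7 - a7 - b7 = -2 := by omega
    have e2 : 2 * n11 - a11 - b11 = -2 := by omega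
    rw [hbm, e1, e2] at h0
    omega
  · -- d = 512
    norm_num at hddvd
  · -- d = 640
    omega

end Cfsg.Agent.Lib.Helper82.OneBlock
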