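import Cfsg.Agent.Lib.Helper4.Conj

/-!
# Sums of class functions over unions of conjugacy classes (helper82)
-/

set_option autoImplicit false

namespace Cfsg.Agent.Lib.Helper82.OneBlock

open Finset

variable {G : Type*} [Group G] [Fintype G]

open scoped Classical in
/-- The conjugacy class of `g` as a finset. -/
noncomputable def cls (g : G) : Finset G := univ.filter (fun x => IsConj g x)

open scoped Classical in
/-- The union of the conjugacy classes of the members of a list. -/
noncomputable def clsUnion (l : List G) : Finset G := univ.filter (fun x => ∃ g ∈ l, IsConj g x)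

theorem mem_cls {g x : G} : x ∈ cls g ↔ IsConj g x := by
  classical
  simp [cls]

theorem mem_clsUnion {l : List G} {x : G} : x ∈ clsUnion l ↔ ∃ g ∈ l, IsConj g x := by
  classical
  simp [clsUnion]

theorem card_cls_mul (g : G) :
    (cls g).card * Nat.card (Subgroup.centralizer ({g} : Set G)) = Nat.card G := by
  classical
  rw [← Cfsg.Agent.Lib.Helper4.card_isConj_mul_card_centralizer g]
  congr 1
  rw [Nat.card_eq_fintype_card, Fintype.card_subtype]
  rfl

omit [Fintype G] in
theorem isConj_orderOf {a b : G} (h : IsConj a b) : orderOf a = orderOf b := by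
  obtain ⟨c, hc⟩ := isConj_iff.mp h
  rw [← hc]
  have := (MulAut.conj c).orderOf_eq a
  rw [MulAut.conj_apply] at this
  exact this.symm

omit [Fintype G] in
theorem isConj_inv_iff {a b : G} : IsConj a⁻¹ b⁻¹ ↔ IsConj a b := by
  rw [isConj_iff, isConj_iff]
  constructor
  · rintro ⟨c, hc⟩
    refine ⟨c, ?_⟩
    have := congrArg (fun t => t⁻¹) hc
    simpa [mul_assoc] using this
  · rintro ⟨c, hc⟩
    refine ⟨c, ?_⟩
    rw [← hc]; group

/-- The classes of `g` and `g⁻¹` have the same size. -/
theorem card_cls_inv (g : G) : (cls g⁻¹).card = (cls g).card := by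
  apply Finset.card_bij (fun x _ => x⁻¹)
  · intro x hx
    rw [mem_cls] at hx ⊢
    have := (isConj_inv_iff (a := g⁻¹) (b := x)).mpr hx
    rwa [inv_inv] at this
  · intro a _ b _ h
    exact inv_injective h
  · intro y hy
    rw [mem_cls] at hy
    refine ⟨y⁻¹, ?_, inv_inv y⟩
    rw [mem_cls]
    exact isConj_inv_iff.mpr hy

theorem sum_cls {R : Type*} [Semiring R] (g : G) (f : G → R)
    (hf : ∀ x, IsConj g x → f x = f g) :
    ∑ x ∈ cls g, f x = ((cls g).card : R) * f g := by
  rw [Finset.sum_congr rfl (g := fun _ => f g) (fun x hx => hf x (mem_cls.mp hx)),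
    Finset.sum_const, nsmul_eq_mul]

open scoped Classical in
theorem clsUnion_cons (g : G) (l : List G) : clsUnion (g :: l) = cls g ∪ clsUnion l := by
  ext x
  rw [Finset.mem_union, mem_clsUnion, mem_cls, mem_clsUnion]
  simp only [List.mem_cons, exists_eq_or_imp]

theorem disjoint_cls_clsUnion {g : G} {l : List G} (h : ∀ a ∈ l, ¬ IsConj g a) :
    Disjoint (cls g) (clsUnion l) := by
  rw [Finset.disjoint_left]
  intro x hx hx'
  rw [mem_cls] at hx
  obtain ⟨a, ha, hax⟩ := mem_clsUnion.mp hx'
  exact h a ha (hx.trans hax.symm)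

open scoped Classical in
theorem sum_clsUnion {R : Type*} [Semiring R] (l : List G)
    (hpw : l.Pairwise (fun a b => ¬ IsConj a b)) (f : G → R)
    (hf : ∀ g x, IsConj g x → f x = f g) :
    ∑ x ∈ clsUnion l, f x = (l.map (fun g => ((cls g).card : R) * f g)).sum := by
  induction l with
  | nil =>
    have : clsUnion ([] : List G) = ∅ := by
      ext x; rw [mem_clsUnion]; simp
    rw [this]; simp
  | cons g l ih =>
    rw [List.pairwise_cons] at hpw
    rw [clsUnion_cons, Finset.sum_union (disjoint_cls_clsUnion hpw.1), ih hpw.2,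
      sum_cls g f (hf g)]
    simp

end Cfsg.Agent.Lib.Helper82.OneBlock
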