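import Cfsg.Agent.Lib.Helper82.OneBlock.NoDefectZeroM24
import Cfsg.Agent.Lib.Helper82.OneBlock.Constrained

/-!
# A group of order 244823040 with the local data of `M₂₄` has a single `2`-block (helper82)
-/

set_option autoImplicit false
set_option linter.style.haveILetI false

namespace Cfsg.Agent.Lib.Helper82.OneBlock

open Cfsg

/-- Abstract form of "`M₂₄` has one `2`-block". -/
theorem sameBlock_244823040 {G : Type*} [Group G] [Finite G] (hG : Nat.card G = 244823040)
    (M : Ideal AlgInt) (hM : IsPModular 2 M)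
    (hinv : ∀ z : G, orderOf z = 2 → ∃ x : G,
      ∃ E : Subgroup (Subgroup.centralizer ({x * z * x⁻¹} : Set G)), E.Normal ∧ IsPGroup 2 E ∧
        Subgroup.centralizer (E : Set (Subgroup.centralizer ({x * z * x⁻¹} : Set G))) ≤ E)
    (g23 g11 g7 g5 : G)
    (h23 : orderOf g23 = 23) (h11 : orderOf g11 = 11) (h7 : orderOf g7 = 7) (h5 : orderOf g5 = 5)
    (c23 : Nat.card (Subgroup.centralizer ({g23} : Set G)) ≤ 23)
    (c11 : Nat.card (Subgroup.centralizer ({g11} : Set G)) ≤ 11)
    (c7 : Nat.card (Subgroup.centralizer ({g7} : Set G)) ≤ 42)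
    (c5 : Nat.card (Subgroup.centralizer ({g5} : Set G)) = 60)
    (f23 : IsConj g23 (g23 ^ 2)) (f11 : IsConj g11 (g11 ^ 2)) (f7 : IsConj g7 (g7 ^ 2))
    (f5 : IsConj g5 (g5 ^ 2))
    (nr23 : ¬ IsConj g23 g23⁻¹) (nr7 : ¬ IsConj g7 g7⁻¹)
    (χ ψ : IrrCharacter G) : SameBlock M (χ : G → ℂ) (ψ : G → ℂ) := by
  haveI : Fact (Nat.Prime 2) := ⟨Nat.prime_two⟩
  apply sameBlock_of_centralizers 2 M hM
  · intro z hz
    obtain ⟨x, E, hEn, hE2, hcE⟩ := hinv z hz
    exact ⟨x, hasOneBlock_of_normal_pSubgroup 2 M hM E hE2 hcE⟩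
  · intro χ
    have hfac : (Nat.card G).factorization 2 = 10 := by
      rw [hG]
      have : (244823040 : ℕ) = 2 ^ 10 * 239085 := by norm_num
      rw [this, Nat.factorization_mul (by norm_num) (by norm_num), Nat.Prime.factorization_pow
        Nat.prime_two]
      simp only [Finsupp.coe_add, Pi.add_apply, Finsupp.single_eq_same]
      have : (239085 : ℕ).factorization 2 = 0 :=
        Nat.factorization_eq_zero_of_not_dvd (by norm_num)
      rw [this]
    rw [hfac]
    exact no_defect_zero_244823040 hG g23 g11 g7 g5 h23 h11 h7 h5 c23 c11 c7 c5 f23 f11 f7 f5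
      nr23 nr7 χ

end Cfsg.Agent.Lib.Helper82.OneBlock
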