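import Cfsg.Agent.Lib.Helper82.OneBlock.PrimeElt
import Cfsg.Agent.Lib.Helper78.CharValues
import Cfsg.Agent.Lib.Helper79.Integrality

/-!
# Values of a character at elements of order 5, 7, 11 with prescribed fusion (helper82)
-/

set_option autoImplicit false

namespace Cfsg.Agent.Lib.Helper82.OneBlock

open Finset Cfsg Cfsg.Agent.Lib.Helper78
open scoped ComplexConjugate

variable {G : Type*} [Group G]

theorem exists_fourier_data {χ : G → ℂ} (hχ : IsCharacter G χ) (g : G) {r : ℕ} (hr : 0 < r)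
    (hg : g ^ r = 1) {ζ : ℂ} (hζ : IsPrimitiveRoot ζ r) :
    ∃ m : ℕ → ℕ, (∑ j ∈ range r, m j = charDegree χ) ∧
      ∀ k : ℕ, χ (g ^ k) = fsum r ζ (fun j => (m j : ℂ)) k := by
  obtain ⟨n, ρ, rfl⟩ := hχ
  obtain ⟨m, hm1, hm2⟩ := exists_mult ρ g hr hg hζ
  refine ⟨m, ?_, hm2⟩
  rw [hm1, Cfsg.Agent.Lib.Helper79.charDegree_of_rep ρ]
  simp

/-- If `g` is conjugate to `g ^ t`, a class function is invariant under `k ↦ t * k` on powers. -/
theorem apply_pow_mul_of_isConj {χ : G → ℂ} (hχ : IsCharacter G χ) {g : G} {t : ℕ}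
    (h : IsConj g (g ^ t)) (k : ℕ) : χ (g ^ (t * k)) = χ (g ^ k) := by
  obtain ⟨c, hc⟩ := isConj_iff.mp h
  rw [pow_mul, ← hc, conj_pow, IsCharacter.conj_apply hχ]

theorem exists_primitiveRoot (r : ℕ) (hr : 0 < r) : ∃ ζ : ℂ, IsPrimitiveRoot ζ r :=
  ⟨_, Complex.isPrimitiveRoot_exp r hr.ne'⟩

theorem conj_natCast_fun (m : ℕ → ℕ) : ∀ j, conj ((fun j => (m j : ℂ)) j) = (fun j => (m j : ℂ)) j :=
  fun j => by simp

/-- Order 5, `g ~ g ^ 2`: the value at `g` is an integer `n₀ - a` with `χ 1 = n₀ + 4 a`. -/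
theorem value_five {χ : G → ℂ} (hχ : IsCharacter G χ) {g : G} (hg : g ^ 5 = 1)
    (hfus : IsConj g (g ^ 2)) :
    ∃ n0 a : ℕ, charDegree χ = n0 + 4 * a ∧ χ g = (n0 : ℂ) - a := by
  obtain ⟨ζ, hζ⟩ := exists_primitiveRoot 5 (by norm_num)
  obtain ⟨m, hm1, hm2⟩ := exists_fourier_data hχ g (by norm_num) hg hζ
  set c : ℕ → ℂ := fun j => (m j : ℂ) with hc
  have hinv : ∀ k, fsum 5 ζ c k = fsum 5 ζ c (2 * k) := fun k => by
    rw [← hm2, ← hm2, apply_pow_mul_of_isConj hχ hfus]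
  have hco : ∀ j', j' < 5 → c j' = c (j' * 3 % 5) := fun j' hj' =>
    coeff_invariant (by norm_num) hζ c 2 3 (by norm_num) hinv hj'
  have hcast : ∀ i j, c i = c j → m i = m j := fun i j h => by
    simpa [hc] using h
  have e13 : m 1 = m 3 := hcast _ _ (hco 1 (by norm_num))
  have e34 : m 3 = m 4 := hcast _ _ (hco 3 (by norm_num))
  have e42 : m 4 = m 2 := hcast _ _ (hco 4 (by norm_num))
  refine ⟨m 0, m 1, ?_, ?_⟩
  · rw [← hm1]
    simp only [Finset.sum_range_succ, Finset.sum_range_zero]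
    omega
  · have hsum := sum_fsum (by norm_num : 0 < 5) hζ c
    simp only [Finset.sum_range_succ, Finset.sum_range_zero, ← hm2] at hsum
    have per : ∀ k, χ (g ^ k) = χ (g ^ (k % 5)) := fun k => by rw [pow_eq_pow_mod k hg]
    have x2 : χ (g ^ 2) = χ (g ^ 1) := apply_pow_mul_of_isConj hχ hfus 1
    have x4 : χ (g ^ 4) = χ (g ^ 2) := apply_pow_mul_of_isConj hχ hfus 2
    have x3 : χ (g ^ 3) = χ (g ^ 4) := by
      have := apply_pow_mul_of_isConj hχ hfus 4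
      rw [per (2 * 4)] at this
      exact this
    have x0 : χ (g ^ 0) = (charDegree χ : ℂ) := by
      rw [pow_zero]; exact IsCharacter.apply_one_eq_charDegree hχ
    have hd : (charDegree χ : ℂ) = (m 0 : ℂ) + 4 * (m 1 : ℂ) := by
      have : charDegree χ = m 0 + 4 * m 1 := by
        rw [← hm1]
        simp only [Finset.sum_range_succ, Finset.sum_range_zero]
        omega
      rw [this]; push_cast; ring
    rw [x3, x4, x2, x0, hd, pow_one] at hsum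
    have hc0 : c 0 = (m 0 : ℂ) := rfl
    rw [hc0] at hsum
    have h4 : (4 : ℂ) * χ g = 4 * ((m 0 : ℂ) - m 1) := by
      have : (4 : ℂ) * χ g = ((5 : ℕ) : ℂ) * (m 0 : ℂ) - ((m 0 : ℂ) + 4 * (m 1 : ℂ)) := by
        rw [← hsum]; ring
      rw [this]; push_cast; ring
    exact mul_left_cancel₀ (by norm_num : (4 : ℂ) ≠ 0) h4

/-- Order 7, `g ~ g ^ 2`. -/
theorem value_seven [Finite G] {χ : G → ℂ} (hχ : IsCharacter G χ) {g : G} (hg : g ^ 7 = 1)
    (hfus : IsConj g (g ^ 2)) :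
    ∃ n0 a b : ℕ, charDegree χ = n0 + 3 * a + 3 * b ∧
      χ g + conj (χ g) = 2 * (n0 : ℂ) - a - b ∧
      χ g * conj (χ g) = (n0 : ℂ) ^ 2 + 2 * (a : ℂ) ^ 2 + 2 * (b : ℂ) ^ 2 - n0 * a - n0 * b
        - 3 * a * b := by
  obtain ⟨ζ, hζ⟩ := exists_primitiveRoot 7 (by norm_num)
  obtain ⟨m, hm1, hm2⟩ := exists_fourier_data hχ g (by norm_num) hg hζ
  set c : ℕ → ℂ := fun j => (m j : ℂ) with hc
  have hinv : ∀ k, fsum 7 ζ c k = fsum 7 ζ c (2 * k) := fun k => by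
    rw [← hm2, ← hm2, apply_pow_mul_of_isConj hχ hfus]
  have hco : ∀ j', j' < 7 → c j' = c (j' * 4 % 7) := fun j' hj' =>
    coeff_invariant (by norm_num) hζ c 2 4 (by norm_num) hinv hj'
  have hcast : ∀ i j, c i = c j → m i = m j := fun i j h => by
    simpa [hc] using h
  have e14 : m 1 = m 4 := hcast _ _ (hco 1 (by norm_num))
  have e42 : m 4 = m 2 := hcast _ _ (hco 4 (by norm_num))
  have e35 : m 3 = m 5 := hcast _ _ (hco 3 (by norm_num))
  have e56 : m 5 = m 6 := hcast _ _ (hco 5 (by norm_num))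
  have hdeg : charDegree χ = m 0 + 3 * m 1 + 3 * m 3 := by
    rw [← hm1]
    simp only [Finset.sum_range_succ, Finset.sum_range_zero]
    omega
  have per : ∀ k, χ (g ^ k) = χ (g ^ (k % 7)) := fun k => by rw [pow_eq_pow_mod k hg]
  have x2 : χ (g ^ 2) = χ (g ^ 1) := apply_pow_mul_of_isConj hχ hfus 1
  have x4 : χ (g ^ 4) = χ (g ^ 2) := apply_pow_mul_of_isConj hχ hfus 2
  have x6 : χ (g ^ 6) = χ (g ^ 3) := apply_pow_mul_of_isConj hχ hfus 3
  have x5 : χ (g ^ 5) = χ (g ^ 6) := by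
    have := apply_pow_mul_of_isConj hχ hfus 6
    rw [per (2 * 6)] at this
    exact this
  have hinv6 : g ^ 6 = g⁻¹ := by
    rw [eq_inv_iff_mul_eq_one, ← pow_succ]; exact hg
  have x6' : χ (g ^ 6) = conj (χ g) := by rw [hinv6]; exact IsCharacter.inv hχ g
  have x0 : χ (g ^ 0) = (charDegree χ : ℂ) := by
    rw [pow_zero]; exact IsCharacter.apply_one_eq_charDegree hχ
  have hd : (charDegree χ : ℂ) = (m 0 : ℂ) + 3 * (m 1 : ℂ) + 3 * (m 3 : ℂ) := by
    rw [hdeg]; push_cast; ring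
  refine ⟨m 0, m 1, m 3, hdeg, ?_, ?_⟩
  · have hsum := sum_fsum (by norm_num : 0 < 7) hζ c
    simp only [Finset.sum_range_succ, Finset.sum_range_zero, ← hm2] at hsum
    rw [x5, x4, x2, ← x6, x6', x0, hd, pow_one] at hsum
    have hc0 : c 0 = (m 0 : ℂ) := rfl
    rw [hc0] at hsum
    have h3 : (3 : ℂ) * (χ g + conj (χ g)) = 3 * (2 * (m 0 : ℂ) - m 1 - m 3) := by
      have : (3 : ℂ) * (χ g + conj (χ g)) =
          ((7 : ℕ) : ℂ) * (m 0 : ℂ) - ((m 0 : ℂ) + 3 * (m 1 : ℂ) + 3 * (m 3 : ℂ)) := by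
        rw [← hsum]; ring
      rw [this]; push_cast; ring
    exact mul_left_cancel₀ (by norm_num : (3 : ℂ) ≠ 0) h3
  · have hpar := parseval (by norm_num : 0 < 7) hζ c (conj_natCast_fun m)
    simp only [Finset.sum_range_succ, Finset.sum_range_zero, ← hm2] at hpar
    rw [x5, x4, x2, ← x6, x6', x0, pow_one] at hpar
    have hcj : ∀ j, c j = (m j : ℂ) := fun j => rfl
    have q2 : m 2 = m 1 := by omega
    have q4 : m 4 = m 1 := by omega
    have q5 : m 5 = m 3 := by omega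
    have q6 : m 6 = m 3 := by omega
    simp only [hcj, q2, q4, q5, q6] at hpar
    have hcc : conj (conj (χ g)) = χ g := Complex.conj_conj _
    rw [hcc, Complex.conj_natCast, hd] at hpar
    have h6 : (6 : ℂ) * (χ g * conj (χ g)) = 6 * ((m 0 : ℂ) ^ 2 + 2 * (m 1 : ℂ) ^ 2
        + 2 * (m 3 : ℂ) ^ 2 - m 0 * m 1 - m 0 * m 3 - 3 * m 1 * m 3) := by
      have : (6 : ℂ) * (χ g * conj (χ g)) = ((7 : ℕ) : ℂ) * (0 + (m 0 : ℂ) ^ 2 + (m 1 : ℂ) ^ 2
          + (m 1 : ℂ) ^ 2 + (m 3 : ℂ) ^ 2 + (m 1 : ℂ) ^ 2 + (m 3 : ℂ) ^ 2 + (m 3 : ℂ) ^ 2)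
          - ((m 0 : ℂ) + 3 * (m 1 : ℂ) + 3 * (m 3 : ℂ)) * ((m 0 : ℂ) + 3 * (m 1 : ℂ)
          + 3 * (m 3 : ℂ)) := by
        rw [← hpar]; ring
      rw [this]; push_cast; ring
    exact mul_left_cancel₀ (by norm_num : (6 : ℂ) ≠ 0) h6

/-- Order 11, `g ~ g ^ 3`. -/
theorem value_eleven [Finite G] {χ : G → ℂ} (hχ : IsCharacter G χ) {g : G} (hg : g ^ 11 = 1)
    (hfus : IsConj g (g ^ 3)) :
    ∃ n0 a b : ℕ, charDegree χ = n0 + 5 * a + 5 * b ∧
      χ g + conj (χ g) = 2 * (n0 : ℂ) - a - b ∧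
      χ g * conj (χ g) = (n0 : ℂ) ^ 2 + 3 * (a : ℂ) ^ 2 + 3 * (b : ℂ) ^ 2 - n0 * a - n0 * b
        - 5 * a * b := by
  obtain ⟨ζ, hζ⟩ := exists_primitiveRoot 11 (by norm_num)
  obtain ⟨m, hm1, hm2⟩ := exists_fourier_data hχ g (by norm_num) hg hζ
  set c : ℕ → ℂ := fun j => (m j : ℂ) with hc
  have hinv : ∀ k, fsum 11 ζ c k = fsum 11 ζ c (3 * k) := fun k => by
    rw [← hm2, ← hm2, apply_pow_mul_of_isConj hχ hfus]
  have hco : ∀ j', j' < 11 → c j' = c (j' * 4 % 11) := fun j' hj' =>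
    coeff_invariant (by norm_num) hζ c 3 4 (by norm_num) hinv hj'
  have hcast : ∀ i j, c i = c j → m i = m j := fun i j h => by
    simpa [hc] using h
  have e1 : m 1 = m 4 := hcast _ _ (hco 1 (by norm_num))
  have e4 : m 4 = m 5 := hcast _ _ (hco 4 (by norm_num))
  have e5 : m 5 = m 9 := hcast _ _ (hco 5 (by norm_num))
  have e9 : m 9 = m 3 := hcast _ _ (hco 9 (by norm_num))
  have e2 : m 2 = m 8 := hcast _ _ (hco 2 (by norm_num))
  have e8 : m 8 = m 10 := hcast _ _ (hco 8 (by norm_num))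
  have e10 : m 10 = m 7 := hcast _ _ (hco 10 (by norm_num))
  have e7 : m 7 = m 6 := hcast _ _ (hco 7 (by norm_num))
  have hdeg : charDegree χ = m 0 + 5 * m 1 + 5 * m 2 := by
    rw [← hm1]
    simp only [Finset.sum_range_succ, Finset.sum_range_zero]
    omega
  have per : ∀ k, χ (g ^ k) = χ (g ^ (k % 11)) := fun k => by rw [pow_eq_pow_mod k hg]
  have x3 : χ (g ^ 3) = χ (g ^ 1) := apply_pow_mul_of_isConj hχ hfus 1
  have x9 : χ (g ^ 9) = χ (g ^ 3) := apply_pow_mul_of_isConj hχ hfus 3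
  have x5 : χ (g ^ 5) = χ (g ^ 9) := by
    have := apply_pow_mul_of_isConj hχ hfus 9
    rw [per (3 * 9)] at this
    exact this
  have x4 : χ (g ^ 4) = χ (g ^ 5) := by
    have := apply_pow_mul_of_isConj hχ hfus 5
    rw [per (3 * 5)] at this
    exact this
  have x8 : χ (g ^ 8) = χ (g ^ 10) := by
    have := apply_pow_mul_of_isConj hχ hfus 10
    rw [per (3 * 10)] at this
    exact this
  have x2 : χ (g ^ 2) = χ (g ^ 8) := by
    have := apply_pow_mul_of_isConj hχ hfus 8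
    rw [per (3 * 8)] at this
    exact this
  have x6 : χ (g ^ 6) = χ (g ^ 2) := apply_pow_mul_of_isConj hχ hfus 2
  have x7 : χ (g ^ 7) = χ (g ^ 6) := by
    have := apply_pow_mul_of_isConj hχ hfus 6
    rw [per (3 * 6)] at this
    exact this
  have hinv10 : g ^ 10 = g⁻¹ := by
    rw [eq_inv_iff_mul_eq_one, ← pow_succ]; exact hg
  have x10 : χ (g ^ 10) = conj (χ g) := by rw [hinv10]; exact IsCharacter.inv hχ g
  have x0 : χ (g ^ 0) = (charDegree χ : ℂ) := by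
    rw [pow_zero]; exact IsCharacter.apply_one_eq_charDegree hχ
  have hd : (charDegree χ : ℂ) = (m 0 : ℂ) + 5 * (m 1 : ℂ) + 5 * (m 2 : ℂ) := by
    rw [hdeg]; push_cast; ring
  refine ⟨m 0, m 1, m 2, hdeg, ?_, ?_⟩
  · have hsum := sum_fsum (by norm_num : 0 < 11) hζ c
    simp only [Finset.sum_range_succ, Finset.sum_range_zero, ← hm2] at hsum
    rw [x7, x6, x2, x8, x4, x5, x9, x3, x10, x0, hd, pow_one] at hsum
    have hc0 : c 0 = (m 0 : ℂ) := rfl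
    rw [hc0] at hsum
    have h5 : (5 : ℂ) * (χ g + conj (χ g)) = 5 * (2 * (m 0 : ℂ) - m 1 - m 2) := by
      have : (5 : ℂ) * (χ g + conj (χ g)) =
          ((11 : ℕ) : ℂ) * (m 0 : ℂ) - ((m 0 : ℂ) + 5 * (m 1 : ℂ) + 5 * (m 2 : ℂ)) := by
        rw [← hsum]; ring
      rw [this]; push_cast; ring
    exact mul_left_cancel₀ (by norm_num : (5 : ℂ) ≠ 0) h5
  · have hpar := parseval (by norm_num : 0 < 11) hζ c (conj_natCast_fun m)
    simp only [Finset.sum_range_succ, Finset.sum_range_zero, ← hm2] at hpar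
    rw [x7, x6, x2, x8, x4, x5, x9, x3, x10, x0, pow_one] at hpar
    have hcj : ∀ j, c j = (m j : ℂ) := fun j => rfl
    have q3 : m 3 = m 1 := by omega
    have q4 : m 4 = m 1 := by omega
    have q5 : m 5 = m 1 := by omega
    have q9 : m 9 = m 1 := by omega
    have q6 : m 6 = m 2 := by omega
    have q7 : m 7 = m 2 := by omega
    have q8 : m 8 = m 2 := by omega
    have q10 : m 10 = m 2 := by omega
    simp only [hcj, q3, q4, q5, q9, q6, q7, q8, q10] at hpar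
    have hcc : conj (conj (χ g)) = χ g := Complex.conj_conj _
    rw [hcc, Complex.conj_natCast, hd] at hpar
    have h10 : (10 : ℂ) * (χ g * conj (χ g)) = 10 * ((m 0 : ℂ) ^ 2 + 3 * (m 1 : ℂ) ^ 2
        + 3 * (m 2 : ℂ) ^ 2 - m 0 * m 1 - m 0 * m 2 - 5 * m 1 * m 2) := by
      have : (10 : ℂ) * (χ g * conj (χ g)) = ((11 : ℕ) : ℂ) * (0 + (m 0 : ℂ) ^ 2 + (m 1 : ℂ) ^ 2
          + (m 2 : ℂ) ^ 2 + (m 1 : ℂ) ^ 2 + (m 1 : ℂ) ^ 2 + (m 1 : ℂ) ^ 2 + (m 2 : ℂ) ^ 2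
          + (m 2 : ℂ) ^ 2 + (m 2 : ℂ) ^ 2 + (m 1 : ℂ) ^ 2 + (m 2 : ℂ) ^ 2)
          - ((m 0 : ℂ) + 5 * (m 1 : ℂ) + 5 * (m 2 : ℂ)) * ((m 0 : ℂ) + 5 * (m 1 : ℂ)
          + 5 * (m 2 : ℂ)) := by
        rw [← hpar]; ring
      rw [this]; push_cast; ring
    exact mul_left_cancel₀ (by norm_num : (10 : ℂ) ≠ 0) h10

end Cfsg.Agent.Lib.Helper82.OneBlock
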