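import Cfsg.Agent.Lib.Helper82.OneBlock.ClassSum
import Cfsg.Agent.Lib.Helper82.OneBlock.PrimeInst
import Cfsg.Agent.Lib.Helper78.CharMore

/-!
# The norm count for a group of order 443520 with the local data of `M₂₂` (helper82)

`NormData` packages, for an irreducible character `χ` of a finite group `G` and elements
`g5, g7, g11` with the fusion and centralizer hypotheses, the integer inequality coming from
`∑ |χ|² = |G|` restricted to the classes of `1, g5, g7, g7⁻¹, g11, g11⁻¹`.
-/

set_option autoImplicit false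

namespace Cfsg.Agent.Lib.Helper82.OneBlock

open Finset Cfsg Cfsg.Agent.Lib.Helper78
open scoped ComplexConjugate

variable {G : Type*} [Group G] [Fintype G]

/-- `∑ₓ |χ x|² = |G|` over the reals. -/
theorem sum_normSq_irr (χ : IrrCharacter G) :
    ∑ x : G, Complex.normSq ((χ : G → ℂ) x) = (Fintype.card G : ℝ) := by
  have h := classInner_irr_self χ.2
  unfold classInner at h
  have hc : (Nat.card G : ℂ) ≠ 0 := by
    rw [Nat.card_eq_fintype_card]
    exact_mod_cast Fintype.card_ne_zero
  have h2 : ∑ g : G, (χ : G → ℂ) g * conj ((χ : G → ℂ) g) = (Nat.card G : ℂ) := by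
    field_simp at h
    exact h
  have h3 : ((∑ x : G, Complex.normSq ((χ : G → ℂ) x) : ℝ) : ℂ) = ((Fintype.card G : ℝ) : ℂ) := by
    rw [Complex.ofReal_sum]
    simp_rw [← Complex.mul_conj]
    rw [h2, Nat.card_eq_fintype_card]
    simp
  exact Complex.ofReal_injective h3

/-- `∑ₓ χ x = 0` for a nontrivial irreducible character. -/
theorem sum_irr_eq_zero (χ : IrrCharacter G) (hne : (χ : G → ℂ) ≠ fun _ => 1) :
    ∑ x : G, (χ : G → ℂ) x = 0 := by
  have h := classInner_irr_ne χ.2 (isIrrCharacter_one (G := G)) hne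
  unfold classInner at h
  have hc : (Nat.card G : ℂ) ≠ 0 := by
    rw [Nat.card_eq_fintype_card]
    exact_mod_cast Fintype.card_ne_zero
  rcases mul_eq_zero.mp h with h1 | h1
  · exact absurd (inv_eq_zero.mp h1) hc
  · simpa using h1

end Cfsg.Agent.Lib.Helper82.OneBlock
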