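import Cfsg.Agent.Lib.Helper82.OneBlock.NoDefectZeroA
import Cfsg.Agent.Lib.Helper82.OneBlock.Arith443520

/-!
# No character of `2`-defect zero in a group of order 443520 with the local data of `M₂₂` (helper82)
-/

set_option autoImplicit false
set_option linter.style.haveILetI false

namespace Cfsg.Agent.Lib.Helper82.OneBlock

open Finset Cfsg Cfsg.Agent.Lib.Helper78
open scoped ComplexConjugate

theorem card_cls_ge {G : Type*} [Group G] [Fintype G] (g : G) {N c k : ℕ}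
    (hN : Nat.card G = N) (hc : Nat.card (Subgroup.centralizer ({g} : Set G)) ≤ c)
    (hk : N = k * c) (hc0 : 0 < c) : k ≤ (cls g).card := by
  have h := card_cls_mul g
  rw [hN, hk] at h
  by_contra hlt
  push Not at hlt
  have h1 : (cls g).card * Nat.card (Subgroup.centralizer ({g} : Set G)) ≤ (cls g).card * c :=
    Nat.mul_le_mul_left _ hc
  have h2 : (cls g).card * c < k * c := Nat.mul_lt_mul_of_pos_right hlt hc0
  omega

theorem card_cls_one {G : Type*} [Group G] [Fintype G] : (cls (1 : G)).card = 1 := by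
  rw [Finset.card_eq_one]
  refine ⟨1, ?_⟩
  ext x
  rw [mem_cls, Finset.mem_singleton, isConj_iff]
  constructor
  · rintro ⟨c, hc⟩
    rw [← hc]; group
  · rintro rfl
    exact ⟨1, by group⟩

theorem no_defect_zero_443520 {G : Type*} [Group G] [Finite G] (hG : Nat.card G = 443520)
    (g5 g7 g11 : G) (h5 : orderOf g5 = 5) (h7 : orderOf g7 = 7) (h11 : orderOf g11 = 11)
    (c5 : Nat.card (Subgroup.centralizer ({g5} : Set G)) ≤ 5)
    (c7 : Nat.card (Subgroup.centralizer ({g7} : Set G)) ≤ 7)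
    (c11 : Nat.card (Subgroup.centralizer ({g11} : Set G)) ≤ 11)
    (f5 : IsConj g5 (g5 ^ 2)) (f7 : IsConj g7 (g7 ^ 2)) (f11 : IsConj g11 (g11 ^ 3))
    (nr7 : ¬ IsConj g7 g7⁻¹) (nr11 : ¬ IsConj g11 g11⁻¹)
    (χ : IrrCharacter G) : ¬ 128 ∣ charDegree (χ : G → ℂ) := by
  classical
  haveI : Fintype G := Fintype.ofFinite G
  intro hdvd
  have hχc : IsCharacter G (χ : G → ℂ) := IsIrrCharacter.isCharacter χ.2
  have hcardF : Fintype.card G = 443520 := by rw [← Nat.card_eq_fintype_card, hG]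
  set d : ℕ := charDegree (χ : G → ℂ) with hd
  have hd0 : 0 < d := Cfsg.Agent.Lib.Helper79.irr_charDegree_pos χ
  have hddvd : d ∣ 443520 := by
    rw [← hG]; exact Cfsg.Agent.Lib.Helper79.irr_charDegree_dvd_card χ
  have hg5 : g5 ^ 5 = 1 := by rw [← h5]; exact pow_orderOf_eq_one g5
  have hg7 : g7 ^ 7 = 1 := by rw [← h7]; exact pow_orderOf_eq_one g7
  have hg11 : g11 ^ 11 = 1 := by rw [← h11]; exact pow_orderOf_eq_one g11
  obtain ⟨n5, a5, e5, v5⟩ := value_five hχc hg5 f5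
  obtain ⟨n7, a7, b7, e7, s7, p7⟩ := value_seven hχc hg7 f7
  obtain ⟨n11, a11, b11, e11, s11, p11⟩ := value_eleven hχc hg11 f11
  -- class functions
  have hχcls : ∀ g x : G, IsConj g x → (χ : G → ℂ) x = (χ : G → ℂ) g := by
    intro g x h
    obtain ⟨c, hc⟩ := isConj_iff.mp h
    rw [← hc]; exact IsCharacter.conj_apply hχc g c
  set w : G → ℝ := fun x => Complex.normSq ((χ : G → ℂ) x) with hw
  have hwcls : ∀ g x : G, IsConj g x → w x = w g := by
    intro g x h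
    simp only [hw, hχcls g x h]
  have hw0 : ∀ x, 0 ≤ w x := fun x => Complex.normSq_nonneg _
  -- the representatives
  have hne : ∀ a b : G, orderOf a ≠ orderOf b → ¬ IsConj a b := fun a b h hc =>
    h (isConj_orderOf hc)
  have o7 : orderOf g7⁻¹ = 7 := by rw [orderOf_inv, h7]
  have o11 : orderOf g11⁻¹ = 11 := by rw [orderOf_inv, h11]
  have hpw : ([1, g5, g7, g7⁻¹, g11, g11⁻¹] : List G).Pairwise (fun a b => ¬ IsConj a b) := by
    simp only [List.pairwise_cons, List.mem_cons, List.not_mem_nil, or_false, forall_eq_or_imp,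
      forall_eq, IsEmpty.forall_iff, implies_true, List.Pairwise.nil, and_true]
    refine ⟨⟨?_, ?_, ?_, ?_, ?_⟩, ⟨?_, ?_, ?_, ?_⟩, ⟨?_, ?_, ?_⟩, ⟨?_, ?_⟩, ?_⟩
    · exact hne _ _ (by rw [orderOf_one, h5]; norm_num)
    · exact hne _ _ (by rw [orderOf_one, h7]; norm_num)
    · exact hne _ _ (by rw [orderOf_one, o7]; norm_num)
    · exact hne _ _ (by rw [orderOf_one, h11]; norm_num)
    · exact hne _ _ (by rw [orderOf_one, o11]; norm_num)
    · exact hne _ _ (by rw [h5, h7]; norm_num)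
    · exact hne _ _ (by rw [h5, o7]; norm_num)
    · exact hne _ _ (by rw [h5, h11]; norm_num)
    · exact hne _ _ (by rw [h5, o11]; norm_num)
    · exact nr7
    · exact hne _ _ (by rw [h7, h11]; norm_num)
    · exact hne _ _ (by rw [h7, o11]; norm_num)
    · exact hne _ _ (by rw [o7, h11]; norm_num)
    · exact hne _ _ (by rw [o7, o11]; norm_num)
    · exact nr11
  set U : Finset G := clsUnion [1, g5, g7, g7⁻¹, g11, g11⁻¹] with hU
  set k5 : ℕ := (cls g5).card with hk5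
  set k7 : ℕ := (cls g7).card with hk7
  set k11 : ℕ := (cls g11).card with hk11
  have hk5' : 88704 ≤ k5 := card_cls_ge g5 hG c5 (by norm_num) (by norm_num)
  have hk7' : 63360 ≤ k7 := card_cls_ge g7 hG c7 (by norm_num) (by norm_num)
  have hk11' : 40320 ≤ k11 := card_cls_ge g11 hG c11 (by norm_num) (by norm_num)
  -- values of `w`
  have hχ1 : (χ : G → ℂ) 1 = (d : ℂ) := IsCharacter.apply_one_eq_charDegree hχc
  have w1 : w 1 = (d : ℝ) ^ 2 := by
    simp only [hw, hχ1, Complex.normSq_natCast]; ring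
  have w5 : w g5 = ((n5 : ℝ) - a5) ^ 2 := by
    have : (χ : G → ℂ) g5 = (((n5 : ℝ) - a5 : ℝ) : ℂ) := by rw [v5]; push_cast; ring
    simp only [hw, this, Complex.normSq_ofReal]; ring
  have w7 : w g7 = (n7 : ℝ) ^ 2 + 2 * (a7 : ℝ) ^ 2 + 2 * (b7 : ℝ) ^ 2 - n7 * a7 - n7 * b7
      - 3 * a7 * b7 := by
    apply Complex.ofReal_injective
    simp only [hw]
    rw [← Complex.mul_conj, p7]; push_cast; ring
  have w11 : w g11 = (n11 : ℝ) ^ 2 + 3 * (a11 : ℝ) ^ 2 + 3 * (b11 : ℝ) ^ 2 - n11 * a11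
      - n11 * b11 - 5 * a11 * b11 := by
    apply Complex.ofReal_injective
    simp only [hw]
    rw [← Complex.mul_conj, p11]; push_cast; ring
  have hχ7i : (χ : G → ℂ) g7⁻¹ = conj ((χ : G → ℂ) g7) := IsCharacter.inv hχc g7
  have hχ11i : (χ : G → ℂ) g11⁻¹ = conj ((χ : G → ℂ) g11) := IsCharacter.inv hχc g11
  have w7i : w g7⁻¹ = w g7 := by simp only [hw, hχ7i, Complex.normSq_conj]
  have w11i : w g11⁻¹ = w g11 := by simp only [hw, hχ11i, Complex.normSq_conj]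
  -- the sum of `w` over `U`
  have hUw : ∑ x ∈ U, w x = (d : ℝ) ^ 2 + k5 * ((n5 : ℝ) - a5) ^ 2
      + 2 * k7 * ((n7 : ℝ) ^ 2 + 2 * (a7 : ℝ) ^ 2 + 2 * (b7 : ℝ) ^ 2 - n7 * a7 - n7 * b7
        - 3 * a7 * b7)
      + 2 * k11 * ((n11 : ℝ) ^ 2 + 3 * (a11 : ℝ) ^ 2 + 3 * (b11 : ℝ) ^ 2 - n11 * a11
        - n11 * b11 - 5 * a11 * b11) := by
    rw [hU, sum_clsUnion _ hpw w hwcls]
    simp only [List.map_cons, List.map_nil, List.sum_cons, List.sum_nil, card_cls_one,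
      card_cls_inv, w7i, w11i, w1, w5, w7, w11, ← hk5, ← hk7, ← hk11]
    push_cast; ring
  have htot : ∑ x : G, w x = 443520 := by
    rw [sum_normSq_irr χ, hcardF]; norm_num
  have hle : ∑ x ∈ U, w x ≤ 443520 := by
    rw [← htot]
    exact Finset.sum_le_sum_of_subset_of_nonneg (Finset.subset_univ _) (fun x _ _ => hw0 x)
  rw [hUw] at hle
  -- apply the arithmetic core
  apply arith_443520 (d : ℤ) (k5 : ℤ) (k7 : ℤ) (k11 : ℤ) (n5 : ℤ) (a5 : ℤ) (n7 : ℤ) (a7 : ℤ) (b7 : ℤ)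
    (n11 : ℤ) (a11 : ℤ) (b11 : ℤ)
  · exact_mod_cast hd0
  · exact_mod_cast hdvd
  · exact_mod_cast hddvd
  · exact_mod_cast hk5'
  · exact_mod_cast hk7'
  · exact_mod_cast hk11'
  · exact_mod_cast e5
  · exact_mod_cast e7
  · exact_mod_cast e11
  · have : (((d : ℤ) ^ 2 + (k5 : ℤ) * ((n5 : ℤ) - a5) ^ 2
      + 2 * (k7 : ℤ) * ((n7 : ℤ) ^ 2 + 2 * (a7 : ℤ) ^ 2 + 2 * (b7 : ℤ) ^ 2 - n7 * a7 - n7 * b7
        - 3 * a7 * b7)
      + 2 * (k11 : ℤ) * ((n11 : ℤ) ^ 2 + 3 * (a11 : ℤ) ^ 2 + 3 * (b11 : ℤ) ^ 2 - n11 * a11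
        - n11 * b11 - 5 * a11 * b11) : ℤ) : ℝ) ≤ ((443520 : ℤ) : ℝ) := by
      push_cast; exact hle
    exact_mod_cast this
  · intro hge
    have hge' : (443520 : ℝ) ≤ ∑ x ∈ U, w x := by
      rw [hUw]
      have : ((443520 : ℤ) : ℝ) ≤ (((d : ℤ) ^ 2 + (k5 : ℤ) * ((n5 : ℤ) - a5) ^ 2
        + 2 * (k7 : ℤ) * ((n7 : ℤ) ^ 2 + 2 * (a7 : ℤ) ^ 2 + 2 * (b7 : ℤ) ^ 2 - n7 * a7 - n7 * b7
          - 3 * a7 * b7)
        + 2 * (k11 : ℤ) * ((n11 : ℤ) ^ 2 + 3 * (a11 : ℤ) ^ 2 + 3 * (b11 : ℤ) ^ 2 - n11 * a11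
          - n11 * b11 - 5 * a11 * b11) : ℤ) : ℝ) := by exact_mod_cast hge
      push_cast at this; exact this
    -- `w` vanishes off `U`
    have hrest : ∑ x ∈ univ \ U, w x = 0 := by
      have := Finset.sum_sdiff (Finset.subset_univ U) (f := w)
      have h2 : ∑ x ∈ univ \ U, w x ≤ 0 := by linarith
      exact le_antisymm h2 (Finset.sum_nonneg fun x _ => hw0 x)
    have hvan : ∀ x ∈ univ \ U, (χ : G → ℂ) x = 0 := by
      intro x hx
      have := (Finset.sum_eq_zero_iff_of_nonneg (fun x _ => hw0 x)).mp hrest x hx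
      exact Complex.normSq_eq_zero.mp this
    have hχne : (χ : G → ℂ) ≠ fun _ => 1 := by
      intro h
      have h1 : (d : ℂ) = 1 := by rw [← hχ1, h]
      have h2 : d = 1 := by exact_mod_cast h1
      rw [h2] at hdvd
      norm_num at hdvd
    have hzero := sum_irr_eq_zero χ hχne
    rw [← Finset.sum_sdiff (Finset.subset_univ U), Finset.sum_eq_zero hvan, zero_add, hU,
      sum_clsUnion _ hpw (χ : G → ℂ) hχcls] at hzero
    simp only [List.map_cons, List.map_nil, List.sum_cons, List.sum_nil, card_cls_one,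
      card_cls_inv, hχ7i, hχ11i, hχ1, v5, ← hk5, ← hk7, ← hk11] at hzero
    have e : ((d : ℤ) + (k5 : ℤ) * ((n5 : ℤ) - a5) + (k7 : ℤ) * (2 * (n7 : ℤ) - a7 - b7)
        + (k11 : ℤ) * (2 * (n11 : ℤ) - a11 - b11) : ℤ) = ((0 : ℤ) : ℂ) := by
      push_cast
      rw [← s7, ← s11, ← hzero]
      ring
    exact_mod_cast e

end Cfsg.Agent.Lib.Helper82.OneBlock
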