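import Cfsg.Agent.Lib.Helper82.OneBlock.PrimeInst

/-!
# Values of a character at elements of order 11 (full fusion) and 23 (helper82)
-/

set_option autoImplicit false
set_option maxHeartbeats 1600000

namespace Cfsg.Agent.Lib.Helper82.OneBlock

open Finset Cfsg Cfsg.Agent.Lib.Helper78
open scoped ComplexConjugate

variable {G : Type*} [Group G]

/-- Order 11, `g ~ g ^ 2` (full fusion): the value at `g` is the integer `n₀ - a`,
`χ 1 = n₀ + 10 a`. -/
theorem value_eleven_full {χ : G → ℂ} (hχ : IsCharacter G χ) {g : G} (hg : g ^ 11 = 1)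
    (hfus : IsConj g (g ^ 2)) :
    ∃ n0 a : ℕ, charDegree χ = n0 + 10 * a ∧ χ g = (n0 : ℂ) - a := by
  obtain ⟨ζ, hζ⟩ := exists_primitiveRoot 11 (by norm_num)
  obtain ⟨m, hm1, hm2⟩ := exists_fourier_data hχ g (by norm_num) hg hζ
  set c : ℕ → ℂ := fun j => (m j : ℂ) with hc
  have hinv : ∀ k, fsum 11 ζ c k = fsum 11 ζ c (2 * k) := fun k => by
    rw [← hm2, ← hm2, apply_pow_mul_of_isConj hχ hfus]
  have hco : ∀ j', j' < 11 → c j' = c (j' * 6 % 11) := fun j' hj' =>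
    coeff_invariant (by norm_num) hζ c 2 6 (by norm_num) hinv hj'
  have hcast : ∀ i j, c i = c j → m i = m j := fun i j h => by
    simpa [hc] using h
  have e1 : m 1 = m 6 := hcast _ _ (hco 1 (by norm_num))
  have e6 : m 6 = m 3 := hcast _ _ (hco 6 (by norm_num))
  have e3 : m 3 = m 7 := hcast _ _ (hco 3 (by norm_num))
  have e7 : m 7 = m 9 := hcast _ _ (hco 7 (by norm_num))
  have e9 : m 9 = m 10 := hcast _ _ (hco 9 (by norm_num))
  have e10 : m 10 = m 5 := hcast _ _ (hco 10 (by norm_num))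
  have e5 : m 5 = m 8 := hcast _ _ (hco 5 (by norm_num))
  have e8 : m 8 = m 4 := hcast _ _ (hco 8 (by norm_num))
  have e4 : m 4 = m 2 := hcast _ _ (hco 4 (by norm_num))
  have hdeg : charDegree χ = m 0 + 10 * m 1 := by
    rw [← hm1]
    simp only [Finset.sum_range_succ, Finset.sum_range_zero]
    omega
  have per : ∀ k, χ (g ^ k) = χ (g ^ (k % 11)) := fun k => by rw [pow_eq_pow_mod k hg]
  have x2 : χ (g ^ 2) = χ (g ^ 1) := apply_pow_mul_of_isConj hχ hfus 1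
  have x4 : χ (g ^ 4) = χ (g ^ 2) := apply_pow_mul_of_isConj hχ hfus 2
  have x8 : χ (g ^ 8) = χ (g ^ 4) := apply_pow_mul_of_isConj hχ hfus 4
  have x5 : χ (g ^ 5) = χ (g ^ 8) := by
    have := apply_pow_mul_of_isConj hχ hfus 8
    rw [per (2 * 8)] at this
    exact this
  have x10 : χ (g ^ 10) = χ (g ^ 5) := apply_pow_mul_of_isConj hχ hfus 5
  have x9 : χ (g ^ 9) = χ (g ^ 10) := by
    have := apply_pow_mul_of_isConj hχ hfus 10
    rw [per (2 * 10)] at this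
    exact this
  have x7 : χ (g ^ 7) = χ (g ^ 9) := by
    have := apply_pow_mul_of_isConj hχ hfus 9
    rw [per (2 * 9)] at this
    exact this
  have x3 : χ (g ^ 3) = χ (g ^ 7) := by
    have := apply_pow_mul_of_isConj hχ hfus 7
    rw [per (2 * 7)] at this
    exact this
  have x6 : χ (g ^ 6) = χ (g ^ 3) := apply_pow_mul_of_isConj hχ hfus 3
  have x0 : χ (g ^ 0) = (charDegree χ : ℂ) := by
    rw [pow_zero]; exact IsCharacter.apply_one_eq_charDegree hχ
  have hd : (charDegree χ : ℂ) = (m 0 : ℂ) + 10 * (m 1 : ℂ) := by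
    rw [hdeg]; push_cast; ring
  refine ⟨m 0, m 1, hdeg, ?_⟩
  have hsum := sum_fsum (by norm_num : 0 < 11) hζ c
  simp only [Finset.sum_range_succ, Finset.sum_range_zero, ← hm2] at hsum
  rw [x6, x3, x7, x9, x10, x5, x8, x4, x2, x0, hd, pow_one] at hsum
  have hc0 : c 0 = (m 0 : ℂ) := rfl
  rw [hc0] at hsum
  have h10 : (10 : ℂ) * χ g = 10 * ((m 0 : ℂ) - m 1) := by
    have : (10 : ℂ) * χ g = ((11 : ℕ) : ℂ) * (m 0 : ℂ) - ((m 0 : ℂ) + 10 * (m 1 : ℂ)) := by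
      rw [← hsum]; ring
    rw [this]; push_cast; ring
  exact mul_left_cancel₀ (by norm_num : (10 : ℂ) ≠ 0) h10

/-- Order 23, `g ~ g ^ 2`. -/
theorem value_twentythree [Finite G] {χ : G → ℂ} (hχ : IsCharacter G χ) {g : G}
    (hg : g ^ 23 = 1) (hfus : IsConj g (g ^ 2)) :
    ∃ n0 a b : ℕ, charDegree χ = n0 + 11 * a + 11 * b ∧
      χ g * conj (χ g) = (n0 : ℂ) ^ 2 + 6 * (a : ℂ) ^ 2 + 6 * (b : ℂ) ^ 2 - n0 * a - n0 * b
        - 11 * a * b := by
  obtain ⟨ζ, hζ⟩ := exists_primitiveRoot 23 (by norm_num)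
  obtain ⟨m, hm1, hm2⟩ := exists_fourier_data hχ g (by norm_num) hg hζ
  set c : ℕ → ℂ := fun j => (m j : ℂ) with hc
  have hinv : ∀ k, fsum 23 ζ c k = fsum 23 ζ c (2 * k) := fun k => by
    rw [← hm2, ← hm2, apply_pow_mul_of_isConj hχ hfus]
  have hco : ∀ j', j' < 23 → c j' = c (j' * 12 % 23) := fun j' hj' =>
    coeff_invariant (by norm_num) hζ c 2 12 (by norm_num) hinv hj'
  have hcast : ∀ i j, c i = c j → m i = m j := fun i j h => by
    simpa [hc] using h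
  have e1 : m 1 = m 12 := hcast _ _ (hco 1 (by norm_num))
  have e12 : m 12 = m 6 := hcast _ _ (hco 12 (by norm_num))
  have e6 : m 6 = m 3 := hcast _ _ (hco 6 (by norm_num))
  have e3 : m 3 = m 13 := hcast _ _ (hco 3 (by norm_num))
  have e13 : m 13 = m 18 := hcast _ _ (hco 13 (by norm_num))
  have e18 : m 18 = m 9 := hcast _ _ (hco 18 (by norm_num))
  have e9 : m 9 = m 16 := hcast _ _ (hco 9 (by norm_num))
  have e16 : m 16 = m 8 := hcast _ _ (hco 16 (by norm_num))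
  have e8 : m 8 = m 4 := hcast _ _ (hco 8 (by norm_num))
  have e4 : m 4 = m 2 := hcast _ _ (hco 4 (by norm_num))
  have e5 : m 5 = m 14 := hcast _ _ (hco 5 (by norm_num))
  have e14 : m 14 = m 7 := hcast _ _ (hco 14 (by norm_num))
  have e7 : m 7 = m 15 := hcast _ _ (hco 7 (by norm_num))
  have e15 : m 15 = m 19 := hcast _ _ (hco 15 (by norm_num))
  have e19 : m 19 = m 21 := hcast _ _ (hco 19 (by norm_num))
  have e21 : m 21 = m 22 := hcast _ _ (hco 21 (by norm_num))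
  have e22 : m 22 = m 11 := hcast _ _ (hco 22 (by norm_num))
  have e11 : m 11 = m 17 := hcast _ _ (hco 11 (by norm_num))
  have e17 : m 17 = m 20 := hcast _ _ (hco 17 (by norm_num))
  have e20 : m 20 = m 10 := hcast _ _ (hco 20 (by norm_num))
  have q2 : m 2 = m 1 := by omega
  have q3 : m 3 = m 1 := by omega
  have q4 : m 4 = m 1 := by omega
  have q6 : m 6 = m 1 := by omega
  have q8 : m 8 = m 1 := by omega
  have q9 : m 9 = m 1 := by omega
  have q12 : m 12 = m 1 := by omega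
  have q13 : m 13 = m 1 := by omega
  have q16 : m 16 = m 1 := by omega
  have q18 : m 18 = m 1 := by omega
  have q7 : m 7 = m 5 := by omega
  have q10 : m 10 = m 5 := by omega
  have q11 : m 11 = m 5 := by omega
  have q14 : m 14 = m 5 := by omega
  have q15 : m 15 = m 5 := by omega
  have q17 : m 17 = m 5 := by omega
  have q19 : m 19 = m 5 := by omega
  have q20 : m 20 = m 5 := by omega
  have q21 : m 21 = m 5 := by omega
  have q22 : m 22 = m 5 := by omega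
  have hdeg : charDegree χ = m 0 + 11 * m 1 + 11 * m 5 := by
    rw [← hm1]
    simp only [Finset.sum_range_succ, Finset.sum_range_zero]
    omega
  have per : ∀ k, χ (g ^ k) = χ (g ^ (k % 23)) := fun k => by rw [pow_eq_pow_mod k hg]
  have x2 : χ (g ^ 2) = χ (g ^ 1) := apply_pow_mul_of_isConj hχ hfus 1
  have x4 : χ (g ^ 4) = χ (g ^ 2) := apply_pow_mul_of_isConj hχ hfus 2
  have x8 : χ (g ^ 8) = χ (g ^ 4) := apply_pow_mul_of_isConj hχ hfus 4
  have x16 : χ (g ^ 16) = χ (g ^ 8) := apply_pow_mul_of_isConj hχ hfus 8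
  have x9 : χ (g ^ 9) = χ (g ^ 16) := by
    have := apply_pow_mul_of_isConj hχ hfus 16
    rw [per (2 * 16)] at this
    exact this
  have x18 : χ (g ^ 18) = χ (g ^ 9) := apply_pow_mul_of_isConj hχ hfus 9
  have x13 : χ (g ^ 13) = χ (g ^ 18) := by
    have := apply_pow_mul_of_isConj hχ hfus 18
    rw [per (2 * 18)] at this
    exact this
  have x3 : χ (g ^ 3) = χ (g ^ 13) := by
    have := apply_pow_mul_of_isConj hχ hfus 13
    rw [per (2 * 13)] at this
    exact this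
  have x6 : χ (g ^ 6) = χ (g ^ 3) := apply_pow_mul_of_isConj hχ hfus 3
  have x12 : χ (g ^ 12) = χ (g ^ 6) := apply_pow_mul_of_isConj hχ hfus 6
  have x21 : χ (g ^ 21) = χ (g ^ 22) := by
    have := apply_pow_mul_of_isConj hχ hfus 22
    rw [per (2 * 22)] at this
    exact this
  have x19 : χ (g ^ 19) = χ (g ^ 21) := by
    have := apply_pow_mul_of_isConj hχ hfus 21
    rw [per (2 * 21)] at this
    exact this
  have x15 : χ (g ^ 15) = χ (g ^ 19) := by
    have := apply_pow_mul_of_isConj hχ hfus 19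
    rw [per (2 * 19)] at this
    exact this
  have x7 : χ (g ^ 7) = χ (g ^ 15) := by
    have := apply_pow_mul_of_isConj hχ hfus 15
    rw [per (2 * 15)] at this
    exact this
  have x14 : χ (g ^ 14) = χ (g ^ 7) := apply_pow_mul_of_isConj hχ hfus 7
  have x5 : χ (g ^ 5) = χ (g ^ 14) := by
    have := apply_pow_mul_of_isConj hχ hfus 14
    rw [per (2 * 14)] at this
    exact this
  have x10 : χ (g ^ 10) = χ (g ^ 5) := apply_pow_mul_of_isConj hχ hfus 5
  have x20 : χ (g ^ 20) = χ (g ^ 10) := apply_pow_mul_of_isConj hχ hfus 10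
  have x17 : χ (g ^ 17) = χ (g ^ 20) := by
    have := apply_pow_mul_of_isConj hχ hfus 20
    rw [per (2 * 20)] at this
    exact this
  have x11 : χ (g ^ 11) = χ (g ^ 17) := by
    have := apply_pow_mul_of_isConj hχ hfus 17
    rw [per (2 * 17)] at this
    exact this
  have hinv22 : g ^ 22 = g⁻¹ := by
    rw [eq_inv_iff_mul_eq_one, ← pow_succ]; exact hg
  have x22 : χ (g ^ 22) = conj (χ g) := by rw [hinv22]; exact IsCharacter.inv hχ g
  have x0 : χ (g ^ 0) = (charDegree χ : ℂ) := by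
    rw [pow_zero]; exact IsCharacter.apply_one_eq_charDegree hχ
  have hd : (charDegree χ : ℂ) = (m 0 : ℂ) + 11 * (m 1 : ℂ) + 11 * (m 5 : ℂ) := by
    rw [hdeg]; push_cast; ring
  refine ⟨m 0, m 1, m 5, hdeg, ?_⟩
  have hpar := parseval (by norm_num : 0 < 23) hζ c (conj_natCast_fun m)
  simp only [Finset.sum_range_succ, Finset.sum_range_zero, ← hm2] at hpar
  rw [x12, x6, x3, x13, x18, x9, x16, x8, x4, x2, x11, x17, x20, x10, x5, x14, x7, x15, x19, x21, x22, x0, pow_one] at hpar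
  have hcj : ∀ j, c j = (m j : ℂ) := fun j => rfl
  simp only [hcj, q2, q3, q4, q6, q8, q9, q12, q13, q16, q18, q7, q10, q11, q14, q15, q17, q19, q20, q21, q22] at hpar
  have hcc : conj (conj (χ g)) = χ g := Complex.conj_conj _
  rw [hcc, Complex.conj_natCast, hd] at hpar
  have h22 : (22 : ℂ) * (χ g * conj (χ g)) = 22 * ((m 0 : ℂ) ^ 2 + 6 * (m 1 : ℂ) ^ 2
      + 6 * (m 5 : ℂ) ^ 2 - m 0 * m 1 - m 0 * m 5 - 11 * m 1 * m 5) := by
    have : (22 : ℂ) * (χ g * conj (χ g)) = ((23 : ℕ) : ℂ) * (0 + (m 0 : ℂ) ^ 2 + (m 1 : ℂ) ^ 2 + (m 1 : ℂ) ^ 2 + (m 1 : ℂ) ^ 2 + (m 1 : ℂ) ^ 2 + (m 5 : ℂ) ^ 2 + (m 1 : ℂ) ^ 2 + (m 5 : ℂ) ^ 2 + (m 1 : ℂ) ^ 2 + (m 1 : ℂ) ^ 2 + (m 5 : ℂ) ^ 2 + (m 5 : ℂ) ^ 2 + (m 1 : ℂ) ^ 2 + (m 1 : ℂ) ^ 2 + (m 5 : ℂ) ^ 2 + (m 5 : ℂ) ^ 2 + (m 1 : ℂ) ^ 2 + (m 5 : ℂ) ^ 2 + (m 1 : ℂ) ^ 2 + (m 5 : ℂ) ^ 2 + (m 5 : ℂ) ^ 2 + (m 5 : ℂ) ^ 2 + (m 5 : ℂ) ^ 2)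
        - ((m 0 : ℂ) + 11 * (m 1 : ℂ) + 11 * (m 5 : ℂ)) * ((m 0 : ℂ) + 11 * (m 1 : ℂ)
        + 11 * (m 5 : ℂ)) := by
      rw [← hpar]; ring
    rw [this]; push_cast; ring
  exact mul_left_cancel₀ (by norm_num : (22 : ℂ) ≠ 0) h22

end Cfsg.Agent.Lib.Helper82.OneBlock
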