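import Cfsg.Agent.Lib.Helper82.OneBlock.NoDefectZeroB
import Cfsg.Agent.Lib.Helper82.OneBlock.PrimeInst2
import Cfsg.Agent.Lib.Helper82.OneBlock.Arith244823040
import Cfsg.Agent.Lib.Helper79.Schur

/-!
# No character of `2`-defect zero in a group of order 244823040 with the local data of `M₂₄`
(helper82)
-/

set_option autoImplicit false
set_option linter.style.haveILetI false

namespace Cfsg.Agent.Lib.Helper82.OneBlock

open Finset Cfsg Cfsg.Agent.Lib.Helper78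
open scoped ComplexConjugate

/-- If `χ g` is a rational integer `x`, then `χ 1` divides `|G : C_G(g)| * x`
(integrality of the central character). -/
theorem charDegree_dvd_index_mul {G : Type*} [Group G] [Finite G] (χ : IrrCharacter G) (g : G)
    (x : ℤ) (hx : (χ : G → ℂ) g = (x : ℂ)) :
    (charDegree (χ : G → ℂ) : ℤ) ∣ ((Subgroup.centralizer ({g} : Set G)).index : ℤ) * x := by
  have hint := Cfsg.Agent.Lib.Helper79.isIntegral_centralChar χ g
  have hd0 : 0 < charDegree (χ : G → ℂ) := Cfsg.Agent.Lib.Helper79.irr_charDegree_pos χ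
  have hχc : IsCharacter G (χ : G → ℂ) := IsIrrCharacter.isCharacter χ.2
  have hχ1 : (χ : G → ℂ) 1 = (charDegree (χ : G → ℂ) : ℂ) :=
    IsCharacter.apply_one_eq_charDegree hχc
  set d : ℕ := charDegree (χ : G → ℂ) with hd
  set I : ℕ := (Subgroup.centralizer ({g} : Set G)).index with hI
  set q : ℚ := ((I : ℚ) * (x : ℚ)) / (d : ℚ) with hq
  have hω : centralChar (χ : G → ℂ) g = ((q : ℚ) : ℂ) := by
    unfold centralChar
    rw [hx, hχ1, hq]; push_cast; rfl
  rw [hω] at hint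
  have hq_int : IsIntegral ℤ q := by
    have : IsIntegral ℤ (algebraMap ℚ ℂ q) := by simpa using hint
    exact (isIntegral_algebraMap_iff (algebraMap ℚ ℂ).injective).mp this
  obtain ⟨z, hz⟩ := IsIntegrallyClosed.isIntegral_iff.mp hq_int
  refine ⟨z, ?_⟩
  have hdq : (d : ℚ) ≠ 0 := by exact_mod_cast hd0.ne'
  have h1 : ((I : ℚ) * (x : ℚ)) = (d : ℚ) * (z : ℚ) := by
    have : (z : ℚ) = q := by simpa using hz
    rw [this, hq]; field_simp
  exact_mod_cast h1

theorem four_dvd_of_mul {x T : ℤ} (h : 15939 * x = 4 * T) : (4 : ℤ) ∣ x := by omega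

set_option maxHeartbeats 1600000 in
theorem no_defect_zero_244823040 {G : Type*} [Group G] [Finite G]
    (hG : Nat.card G = 244823040) (g23 g11 g7 g5 : G)
    (h23 : orderOf g23 = 23) (h11 : orderOf g11 = 11) (h7 : orderOf g7 = 7) (h5 : orderOf g5 = 5)
    (c23 : Nat.card (Subgroup.centralizer ({g23} : Set G)) ≤ 23)
    (c11 : Nat.card (Subgroup.centralizer ({g11} : Set G)) ≤ 11)
    (c7 : Nat.card (Subgroup.centralizer ({g7} : Set G)) ≤ 42)
    (c5 : Nat.card (Subgroup.centralizer ({g5} : Set G)) = 60)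
    (f23 : IsConj g23 (g23 ^ 2)) (f11 : IsConj g11 (g11 ^ 2)) (f7 : IsConj g7 (g7 ^ 2))
    (f5 : IsConj g5 (g5 ^ 2))
    (nr23 : ¬ IsConj g23 g23⁻¹) (nr7 : ¬ IsConj g7 g7⁻¹)
    (χ : IrrCharacter G) : ¬ 2 ^ 10 ∣ charDegree (χ : G → ℂ) := by
  classical
  haveI : Fintype G := Fintype.ofFinite G
  intro hdvd
  have hχc : IsCharacter G (χ : G → ℂ) := IsIrrCharacter.isCharacter χ.2
  have hcardF : Fintype.card G = 244823040 := by rw [← Nat.card_eq_fintype_card, hG]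
  set d : ℕ := charDegree (χ : G → ℂ) with hd
  have hd0 : 0 < d := Cfsg.Agent.Lib.Helper79.irr_charDegree_pos χ
  have hddvd : d ∣ 244823040 := by
    rw [← hG]; exact Cfsg.Agent.Lib.Helper79.irr_charDegree_dvd_card χ
  have hg23 : g23 ^ 23 = 1 := by rw [← h23]; exact pow_orderOf_eq_one g23
  have hg11 : g11 ^ 11 = 1 := by rw [← h11]; exact pow_orderOf_eq_one g11
  have hg7 : g7 ^ 7 = 1 := by rw [← h7]; exact pow_orderOf_eq_one g7
  have hg5 : g5 ^ 5 = 1 := by rw [← h5]; exact pow_orderOf_eq_one g5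
  obtain ⟨n23, a23, b23, e23, p23⟩ := value_twentythree hχc hg23 f23
  obtain ⟨n11, a11, e11, v11⟩ := value_eleven_full hχc hg11 f11
  obtain ⟨n7, a7, b7, e7, _, p7⟩ := value_seven hχc hg7 f7
  obtain ⟨n5, a5, e5, v5⟩ := value_five hχc hg5 f5
  -- class functions
  have hχcls : ∀ g x : G, IsConj g x → (χ : G → ℂ) x = (χ : G → ℂ) g := by
    intro g x h
    obtain ⟨c, hc⟩ := isConj_iff.mp h
    rw [← hc]; exact IsCharacter.conj_apply hχc g c
  set w : G → ℝ := fun x => Complex.normSq ((χ : G → ℂ) x) with hw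
  have hwcls : ∀ g x : G, IsConj g x → w x = w g := by
    intro g x h
    simp only [hw, hχcls g x h]
  have hw0 : ∀ x, 0 ≤ w x := fun x => Complex.normSq_nonneg _
  have hne : ∀ a b : G, orderOf a ≠ orderOf b → ¬ IsConj a b := fun a b h hc =>
    h (isConj_orderOf hc)
  have o23 : orderOf g23⁻¹ = 23 := by rw [orderOf_inv, h23]
  have o7 : orderOf g7⁻¹ = 7 := by rw [orderOf_inv, h7]
  have hpw : ([1, g23, g23⁻¹, g11, g7, g7⁻¹, g5] : List G).Pairwise
      (fun a b => ¬ IsConj a b) := by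
    simp only [List.pairwise_cons, List.mem_cons, List.not_mem_nil, or_false, forall_eq_or_imp,
      forall_eq, IsEmpty.forall_iff, implies_true, List.Pairwise.nil, and_true]
    refine ⟨⟨?_, ?_, ?_, ?_, ?_, ?_⟩, ⟨?_, ?_, ?_, ?_, ?_⟩, ⟨?_, ?_, ?_, ?_⟩, ⟨?_, ?_, ?_⟩,
      ⟨?_, ?_⟩, ?_⟩
    · exact hne _ _ (by rw [orderOf_one, h23]; norm_num)
    · exact hne _ _ (by rw [orderOf_one, o23]; norm_num)
    · exact hne _ _ (by rw [orderOf_one, h11]; norm_num)
    · exact hne _ _ (by rw [orderOf_one, h7]; norm_num)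
    · exact hne _ _ (by rw [orderOf_one, o7]; norm_num)
    · exact hne _ _ (by rw [orderOf_one, h5]; norm_num)
    · exact nr23
    · exact hne _ _ (by rw [h23, h11]; norm_num)
    · exact hne _ _ (by rw [h23, h7]; norm_num)
    · exact hne _ _ (by rw [h23, o7]; norm_num)
    · exact hne _ _ (by rw [h23, h5]; norm_num)
    · exact hne _ _ (by rw [o23, h11]; norm_num)
    · exact hne _ _ (by rw [o23, h7]; norm_num)
    · exact hne _ _ (by rw [o23, o7]; norm_num)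
    · exact hne _ _ (by rw [o23, h5]; norm_num)
    · exact hne _ _ (by rw [h11, h7]; norm_num)
    · exact hne _ _ (by rw [h11, o7]; norm_num)
    · exact hne _ _ (by rw [h11, h5]; norm_num)
    · exact nr7
    · exact hne _ _ (by rw [h7, h5]; norm_num)
    · exact hne _ _ (by rw [o7, h5]; norm_num)
  set U : Finset G := clsUnion [1, g23, g23⁻¹, g11, g7, g7⁻¹, g5] with hU
  set k23 : ℕ := (cls g23).card with hk23
  set k11 : ℕ := (cls g11).card with hk11
  set k7 : ℕ := (cls g7).card with hk7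
  set k5 : ℕ := (cls g5).card with hk5
  have hk23' : 10644480 ≤ k23 := card_cls_ge g23 hG c23 (by norm_num) (by norm_num)
  have hk11' : 22256640 ≤ k11 := card_cls_ge g11 hG c11 (by norm_num) (by norm_num)
  have hk7' : 5829120 ≤ k7 := card_cls_ge g7 hG c7 (by norm_num) (by norm_num)
  have hk5' : 4080384 ≤ k5 := card_cls_ge g5 hG c5.le (by norm_num) (by norm_num)
  -- values of `w`
  have hχ1 : (χ : G → ℂ) 1 = (d : ℂ) := IsCharacter.apply_one_eq_charDegree hχc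
  have w1 : w 1 = (d : ℝ) ^ 2 := by
    simp only [hw, hχ1, Complex.normSq_natCast]; ring
  have w5 : w g5 = ((n5 : ℝ) - a5) ^ 2 := by
    have : (χ : G → ℂ) g5 = (((n5 : ℝ) - a5 : ℝ) : ℂ) := by rw [v5]; push_cast; ring
    simp only [hw, this, Complex.normSq_ofReal]; ring
  have w11 : w g11 = ((n11 : ℝ) - a11) ^ 2 := by
    have : (χ : G → ℂ) g11 = (((n11 : ℝ) - a11 : ℝ) : ℂ) := by rw [v11]; push_cast; ring
    simp only [hw, this, Complex.normSq_ofReal]; ring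
  have w7 : w g7 = (n7 : ℝ) ^ 2 + 2 * (a7 : ℝ) ^ 2 + 2 * (b7 : ℝ) ^ 2 - n7 * a7 - n7 * b7
      - 3 * a7 * b7 := by
    apply Complex.ofReal_injective
    simp only [hw]
    rw [← Complex.mul_conj, p7]; push_cast; ring
  have w23 : w g23 = (n23 : ℝ) ^ 2 + 6 * (a23 : ℝ) ^ 2 + 6 * (b23 : ℝ) ^ 2 - n23 * a23
      - n23 * b23 - 11 * a23 * b23 := by
    apply Complex.ofReal_injective
    simp only [hw]
    rw [← Complex.mul_conj, p23]; push_cast; ring
  have hχ7i : (χ : G → ℂ) g7⁻¹ = conj ((χ : G → ℂ) g7) := IsCharacter.inv hχc g7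
  have hχ23i : (χ : G → ℂ) g23⁻¹ = conj ((χ : G → ℂ) g23) := IsCharacter.inv hχc g23
  have w7i : w g7⁻¹ = w g7 := by simp only [hw, hχ7i, Complex.normSq_conj]
  have w23i : w g23⁻¹ = w g23 := by simp only [hw, hχ23i, Complex.normSq_conj]
  have hUw : ∑ x ∈ U, w x = (d : ℝ) ^ 2
      + 2 * k23 * ((n23 : ℝ) ^ 2 + 6 * (a23 : ℝ) ^ 2 + 6 * (b23 : ℝ) ^ 2 - n23 * a23
        - n23 * b23 - 11 * a23 * b23)
      + k11 * ((n11 : ℝ) - a11) ^ 2
      + 2 * k7 * ((n7 : ℝ) ^ 2 + 2 * (a7 : ℝ) ^ 2 + 2 * (b7 : ℝ) ^ 2 - n7 * a7 - n7 * b7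
        - 3 * a7 * b7)
      + k5 * ((n5 : ℝ) - a5) ^ 2 := by
    rw [hU, sum_clsUnion _ hpw w hwcls]
    simp only [List.map_cons, List.map_nil, List.sum_cons, List.sum_nil, card_cls_one,
      card_cls_inv, w7i, w23i, w1, w5, w7, w11, w23, ← hk5, ← hk7, ← hk11, ← hk23]
    push_cast; ring
  have htot : ∑ x : G, w x = 244823040 := by
    rw [sum_normSq_irr χ, hcardF]; norm_num
  have hle : ∑ x ∈ U, w x ≤ 244823040 := by
    rw [← htot]
    exact Finset.sum_le_sum_of_subset_of_nonneg (Finset.subset_univ _) (fun x _ _ => hw0 x)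
  rw [hUw] at hle
  -- `4 ∣ χ g5`
  have hx5 : (χ : G → ℂ) g5 = (((n5 : ℤ) - a5 : ℤ) : ℂ) := by rw [v5]; push_cast; ring
  have hdiv := charDegree_dvd_index_mul χ g5 ((n5 : ℤ) - a5) hx5
  have hidx : (Subgroup.centralizer ({g5} : Set G)).index = 4080384 := by
    have := Subgroup.index_mul_card (Subgroup.centralizer ({g5} : Set G))
    rw [c5, hG] at this
    omega
  rw [hidx] at hdiv
  have h4 : (4 : ℤ) ∣ (n5 : ℤ) - a5 := by
    obtain ⟨t, ht⟩ := hdvd
    obtain ⟨z, hz⟩ := hdiv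
    have hd' : (d : ℤ) = 2 ^ 10 * (t : ℤ) := by exact_mod_cast ht
    rw [hd'] at hz
    have : ((4080384 : ℕ) : ℤ) = 4080384 := by norm_num
    rw [this] at hz
    have hz' : 15939 * ((n5 : ℤ) - a5) = 4 * ((t : ℤ) * z) := by
      have : (4080384 : ℤ) * ((n5 : ℤ) - a5) = 2 ^ 10 * (t : ℤ) * z := hz
      have e1 : (4080384 : ℤ) = 256 * 15939 := by norm_num
      have e2 : (2 : ℤ) ^ 10 = 256 * 4 := by norm_num
      rw [e1, e2] at this
      have h256 : (256 : ℤ) ≠ 0 := by norm_num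
      apply mul_left_cancel₀ h256
      linarith
    exact four_dvd_of_mul hz'
  apply arith_244823040 (d : ℤ) (k23 : ℤ) (k11 : ℤ) (k7 : ℤ) (k5 : ℤ) (n23 : ℤ) (a23 : ℤ) (b23 : ℤ)
    (n11 : ℤ) (a11 : ℤ) (n7 : ℤ) (a7 : ℤ) (b7 : ℤ) (n5 : ℤ) (a5 : ℤ)
  · exact_mod_cast hd0
  · have : (1024 : ℕ) ∣ d := by simpa using hdvd
    exact_mod_cast this
  · exact_mod_cast hddvd
  · exact_mod_cast hk23'
  · exact_mod_cast hk11'
  · exact_mod_cast hk7'
  · exact_mod_cast hk5'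
  · exact_mod_cast e23
  · exact_mod_cast e11
  · exact_mod_cast e7
  · exact_mod_cast e5
  · exact h4
  · have : (((d : ℤ) ^ 2
      + 2 * (k23 : ℤ) * ((n23 : ℤ) ^ 2 + 6 * (a23 : ℤ) ^ 2 + 6 * (b23 : ℤ) ^ 2 - n23 * a23
        - n23 * b23 - 11 * a23 * b23)
      + (k11 : ℤ) * ((n11 : ℤ) - a11) ^ 2
      + 2 * (k7 : ℤ) * ((n7 : ℤ) ^ 2 + 2 * (a7 : ℤ) ^ 2 + 2 * (b7 : ℤ) ^ 2 - n7 * a7 - n7 * b7
        - 3 * a7 * b7)
      + (k5 : ℤ) * ((n5 : ℤ) - a5) ^ 2 : ℤ) : ℝ) ≤ ((244823040 : ℤ) : ℝ) := by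
      push_cast; exact hle
    exact_mod_cast this

end Cfsg.Agent.Lib.Helper82.OneBlock
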