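import Cfsg.Agent.Lib.Helper76.Galois

/-!
# Character values on a cyclic subgroup as a finite Fourier transform (helper82)

For `g ^ r = 1` the values `χ (g ^ k)` are `∑ j < r, m j * ζ ^ (j * k)` with natural multiplicities
`m j`.  We prove Fourier inversion, Parseval, and invariance of the multiplicities when `χ` is
invariant under `g ↦ g ^ t`.
-/

set_option autoImplicit false

namespace Cfsg.Agent.Lib.Helper82.OneBlock

open Finset
open scoped ComplexConjugate

/-- The finite Fourier sum with coefficients `c`. -/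
noncomputable def fsum (r : ℕ) (ζ : ℂ) (c : ℕ → ℂ) (k : ℕ) : ℂ :=
  ∑ j ∈ range r, c j * ζ ^ (j * k)

section roots

variable {r : ℕ} {ζ : ℂ}

theorem conj_eq_inv_of_primitive (hr : 0 < r) (hζ : IsPrimitiveRoot ζ r) : conj ζ = ζ⁻¹ := by
  have hnorm : ‖ζ‖ = 1 := Complex.norm_eq_one_of_pow_eq_one hζ.pow_eq_one hr.ne'
  exact (Complex.inv_eq_conj hnorm).symm

/-- Orthogonality of the characters of `ℤ/r`. -/
theorem sum_pow_mul_conj_pow (hr : 0 < r) (hζ : IsPrimitiveRoot ζ r) {a : ℕ} {j' : ℕ}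
    (hj' : j' < r) :
    ∑ k ∈ range r, ζ ^ (a * k) * conj ζ ^ (j' * k) = if a % r = j' then (r : ℂ) else 0 := by
  have hζ0 : ζ ≠ 0 := hζ.ne_zero hr.ne'
  rw [conj_eq_inv_of_primitive hr hζ]
  set w : ℂ := ζ ^ a * (ζ⁻¹) ^ j' with hw
  have hterm : ∀ k : ℕ, ζ ^ (a * k) * ζ⁻¹ ^ (j' * k) = w ^ k := by
    intro k
    rw [hw, mul_pow, ← pow_mul, ← pow_mul]
  simp_rw [hterm]
  have hwr : w ^ r = 1 := by
    have h1 : (ζ ^ a) ^ r = 1 := by
      rw [← pow_mul, mul_comm a r, pow_mul, hζ.pow_eq_one, one_pow]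
    have h2 : (ζ⁻¹ ^ j') ^ r = 1 := by
      rw [← pow_mul, mul_comm j' r, pow_mul, inv_pow, hζ.pow_eq_one, inv_one, one_pow]
    rw [hw, mul_pow, h1, h2, one_mul]
  have hw1 : w = 1 ↔ a % r = j' := by
    rw [hw, inv_pow, mul_inv_eq_one₀ (pow_ne_zero _ hζ0)]
    constructor
    · intro h
      have h1 : ζ ^ (a % r) = ζ ^ j' := by
        rw [← h]
        conv_rhs => rw [← Nat.div_add_mod a r, pow_add, pow_mul, hζ.pow_eq_one, one_pow, one_mul]
      exact hζ.pow_inj (Nat.mod_lt _ hr) hj' h1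
    · intro h
      rw [← h]
      conv_lhs => rw [← Nat.div_add_mod a r, pow_add, pow_mul, hζ.pow_eq_one, one_pow, one_mul]
  by_cases h : a % r = j'
  · rw [if_pos h, hw1.mpr h]
    simp
  · rw [if_neg h]
    have hne : w ≠ 1 := fun h1 => h (hw1.mp h1)
    have hsub : w - 1 ≠ 0 := sub_ne_zero.mpr hne
    have := mul_neg_geom_sum w r
    have h2 : (w - 1) * ∑ k ∈ range r, w ^ k = 0 := by
      have h3 := geom_sum_mul w r
      rw [mul_comm] at h3
      rw [h3, hwr, sub_self]
    rcases mul_eq_zero.mp h2 with h3 | h3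
    · exact absurd h3 hsub
    · exact h3

/-- Fourier inversion. -/
theorem fsum_inversion (hr : 0 < r) (hζ : IsPrimitiveRoot ζ r) (c : ℕ → ℂ) {j' : ℕ}
    (hj' : j' < r) :
    ∑ k ∈ range r, fsum r ζ c k * conj ζ ^ (j' * k) = (r : ℂ) * c j' := by
  unfold fsum
  simp_rw [Finset.sum_mul]
  rw [Finset.sum_comm]
  have : ∀ j ∈ range r, ∑ k ∈ range r, c j * ζ ^ (j * k) * conj ζ ^ (j' * k) =
      if j = j' then (r : ℂ) * c j else 0 := by
    intro j hj
    have hjr : j < r := mem_range.mp hj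
    simp_rw [mul_assoc]
    rw [← Finset.mul_sum, sum_pow_mul_conj_pow hr hζ hj', Nat.mod_eq_of_lt hjr]
    split_ifs <;> ring
  rw [Finset.sum_congr rfl this, Finset.sum_ite_eq' (range r) j']
  rw [if_pos (mem_range.mpr hj')]

/-- The sum of the values is `r` times the multiplicity of the trivial character. -/
theorem sum_fsum (hr : 0 < r) (hζ : IsPrimitiveRoot ζ r) (c : ℕ → ℂ) :
    ∑ k ∈ range r, fsum r ζ c k = (r : ℂ) * c 0 := by
  have := fsum_inversion hr hζ c hr
  simpa using this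

theorem conj_fsum (c : ℕ → ℂ) (hc : ∀ j, conj (c j) = c j) (k : ℕ) :
    conj (fsum r ζ c k) = ∑ j ∈ range r, c j * conj ζ ^ (j * k) := by
  unfold fsum
  rw [map_sum]
  refine Finset.sum_congr rfl fun j _ => ?_
  rw [map_mul, map_pow, hc]

/-- Parseval. -/
theorem parseval (hr : 0 < r) (hζ : IsPrimitiveRoot ζ r) (c : ℕ → ℂ)
    (hc : ∀ j, conj (c j) = c j) :
    ∑ k ∈ range r, fsum r ζ c k * conj (fsum r ζ c k) = (r : ℂ) * ∑ j ∈ range r, c j ^ 2 := by
  simp_rw [conj_fsum c hc, Finset.mul_sum]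
  rw [Finset.sum_comm]
  refine Finset.sum_congr rfl fun j' hj' => ?_
  have hj'r : j' < r := mem_range.mp hj'
  have h1 : ∀ k ∈ range r, fsum r ζ c k * (c j' * conj ζ ^ (j' * k)) =
      c j' * (fsum r ζ c k * conj ζ ^ (j' * k)) := fun k _ => by ring
  rw [Finset.sum_congr rfl h1, ← Finset.mul_sum, fsum_inversion hr hζ c hj'r]
  ring

/-- If the values are invariant under `k ↦ t * k`, the multiplicities are invariant under
`j ↦ j * s`, where `s` is inverse to `t` modulo `r`. -/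
theorem coeff_invariant (hr : 0 < r) (hζ : IsPrimitiveRoot ζ r) (c : ℕ → ℂ) (t s : ℕ)
    (hts : t * s % r = 1) (hF : ∀ k, fsum r ζ c k = fsum r ζ c (t * k)) {j' : ℕ} (hj' : j' < r) :
    c j' = c (j' * s % r) := by
  have hr0 : (r : ℂ) ≠ 0 := by exact_mod_cast hr.ne'
  have h1 := fsum_inversion hr hζ c hj'
  have h2 : ∑ k ∈ range r, fsum r ζ c k * conj ζ ^ (j' * k) =
      (r : ℂ) * c (j' * s % r) := by
    have hF' : ∀ k ∈ range r, fsum r ζ c k * conj ζ ^ (j' * k) =
        fsum r ζ c (t * k) * conj ζ ^ (j' * k) := fun k _ => by rw [← hF k]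
    rw [Finset.sum_congr rfl hF']
    unfold fsum
    simp_rw [Finset.sum_mul]
    rw [Finset.sum_comm]
    have hmod : ∀ j : ℕ, j < r → (j * t % r = j' ↔ j = j' * s % r) := by
      intro j hj
      constructor
      · intro h
        rw [← h, Nat.mod_mul_mod, mul_assoc, Nat.mul_mod, hts, Nat.mul_mod, Nat.mod_mod,
          ← Nat.mul_mod, mul_one, Nat.mod_eq_of_lt hj]
      · intro h
        rw [h, Nat.mod_mul_mod, mul_assoc, mul_comm s t, Nat.mul_mod, hts, Nat.mul_mod, Nat.mod_mod,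
          ← Nat.mul_mod, mul_one, Nat.mod_eq_of_lt hj']
    have : ∀ j ∈ range r, ∑ k ∈ range r, c j * ζ ^ (j * (t * k)) * conj ζ ^ (j' * k) =
        if j = j' * s % r then (r : ℂ) * c j else 0 := by
      intro j hj
      have hjr : j < r := mem_range.mp hj
      simp_rw [mul_assoc, ← mul_assoc j t]
      rw [← Finset.mul_sum, sum_pow_mul_conj_pow hr hζ hj']
      by_cases h : j * t % r = j'
      · rw [if_pos h, if_pos ((hmod j hjr).mp h)]; ring
      · rw [if_neg h, if_neg (fun h' => h ((hmod j hjr).mpr h'))]; ring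
    rw [Finset.sum_congr rfl this, Finset.sum_ite_eq' (range r) (j' * s % r)]
    rw [if_pos (mem_range.mpr (Nat.mod_lt _ hr))]
  rw [h1] at h2
  exact mul_left_cancel₀ hr0 h2

end roots

section mult

variable {G : Type*} [Group G] {V : Type*} [AddCommGroup V] [Module ℂ V] [FiniteDimensional ℂ V]

/-- Character values on the powers of an element with `g ^ r = 1` are a Fourier sum with natural
multiplicities adding up to the degree. -/
theorem exists_mult (ρ : Representation ℂ G V) (g : G) {r : ℕ} (hr : 0 < r) (hg : g ^ r = 1)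
    {ζ : ℂ} (hζ : IsPrimitiveRoot ζ r) :
    ∃ m : ℕ → ℕ, (∑ j ∈ range r, m j = Module.finrank ℂ V) ∧
      ∀ k : ℕ, ρ.character (g ^ k) = fsum r ζ (fun j => (m j : ℂ)) k := by
  classical
  have : NeZero r := ⟨hr.ne'⟩
  obtain ⟨μ, hμ, hk⟩ := Cfsg.Agent.Lib.Helper76.exists_character_pow_eq_sum ρ g r hr hg
  have hex : ∀ i, ∃ e : ℕ, e < r ∧ ζ ^ e = μ i := fun i => hζ.eq_pow_of_pow_eq_one (hμ i)
  choose e he1 he2 using hex
  refine ⟨fun j => (univ.filter (fun i => e i = j)).card, ?_, ?_⟩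
  · have := Finset.card_eq_sum_card_fiberwise (s := (univ : Finset (Fin (Module.finrank ℂ V))))
      (t := range r) (f := e) (fun i _ => mem_range.mpr (he1 i))
    rw [← this, Finset.card_univ, Fintype.card_fin]
  · intro k
    rw [hk k]
    unfold fsum
    rw [← Finset.sum_fiberwise_of_maps_to (s := (univ : Finset (Fin (Module.finrank ℂ V))))
      (t := range r) (g := e) (fun i _ => mem_range.mpr (he1 i))]
    refine Finset.sum_congr rfl fun j _ => ?_
    rw [Finset.sum_congr rfl (g := fun _ => ζ ^ (j * k))]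
    · rw [Finset.sum_const, nsmul_eq_mul]
    · intro i hi
      rw [Finset.mem_filter] at hi
      rw [← he2 i, hi.2, pow_mul]

end mult

end Cfsg.Agent.Lib.Helper82.OneBlock
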